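import Groth.Agent.EtaleDeep.ProEt.Basic
import Groth.Agent.EtaleDeep.IndEt.Enlarge

/-!
# Weakly contractible objects of the small pro-etale site
-/

set_option autoImplicit false
set_option backward.isDefEq.respectTransparency.types false
set_option linter.style.haveILetI false

universe w u

open CategoryTheory CategoryTheory.Limits AlgebraicGeometry Opposite

namespace Groth.EtaleDeep.ProEt

variable {X : Scheme.{u}}

theorem isWContractible_iff_isWC (U : X.ProEt) [IsAffine U.left] :
    EtPBC.IsWContractible ↥(Γ(U.left, ⊤)) ↔ ProEtS.IsWC U :=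
  ⟨fun h => isWC_of_refinements (refinements_of_hasSections (hasSections_of_isWContractible h)),
    fun h => isWContractible_of_hasSections (hasSections_of_isWC h)⟩

theorem isWContractible_iff_refinements (U : X.ProEt) [IsAffine U.left] :
    EtPBC.IsWContractible ↥(Γ(U.left, ⊤)) ↔ HasClopenRefinements U :=
  ⟨fun h => refinements_of_hasSections (hasSections_of_isWContractible h),
    fun h => isWContractible_of_hasSections (hasSections_of_refinements h)⟩

/-- w-contractibility is invariant under ring isomorphisms. -/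
theorem isWContractible_of_ringEquiv {A A' : Type u} [CommRing A] [CommRing A'] (e : A ≃+* A')
    (h : EtPBC.IsWContractible A) : EtPBC.IsWContractible A' := by
  intro D _ _ hff hW
  letI : Algebra A D := ((algebraMap A' D).comp e.toRingHom).toAlgebra
  have h1 : Module.FaithfullyFlat A D := by
    rw [← RingHom.faithfullyFlat_algebraMap_iff, RingHom.algebraMap_toAlgebra]
    exact RingHom.FaithfullyFlat.stableUnderComposition _ _
      (RingHom.FaithfullyFlat.of_bijective e.bijective) (RingHom.faithfullyFlat_algebraMap_iff.2 hff)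
  have h2 : Algebra.WeaklyEtale A D :=
    FlatMor2.isWeaklyEtaleHom_iff.1 <| FlatMor2.IsWeaklyEtaleHom.comp
      (φ := e.toRingHom) (ψ := algebraMap A' D)
      (FlatMor2.IsWeaklyEtaleHom.of_bijective e.bijective) (FlatMor2.isWeaklyEtaleHom_iff.2 hW)
  obtain ⟨r⟩ := h D h1 h2
  refine ⟨{ e.toRingHom.comp r.toRingHom with commutes' := fun a => ?_ }⟩
  have h3 : algebraMap A' D a = algebraMap A D (e.symm a) := by
    rw [RingHom.algebraMap_toAlgebra]
    simp
  change e (r (algebraMap A' D a)) = a
  rw [h3, r.commutes]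
  exact e.apply_symm_apply a

/-- An affine object has a w-contractible affine cover. -/
theorem exists_wContractible_affine_cover (W : X.ProEt) [IsAffine W.left] :
    ∃ (V : X.ProEt) (g : V ⟶ W), IsAffine V.left ∧ Surjective g.left ∧
      EtPBC.IsWContractible ↥(Γ(V.left, ⊤)) := by
  obtain ⟨D, _, _, hff, hind, hD⟩ := IndEt.exists_wContractible_cover Γ(W.left, ⊤)
  let φ : Γ(W.left, ⊤) ⟶ CommRingCat.of D := CommRingCat.ofHom (algebraMap Γ(W.left, ⊤) D)
  have hwe : WeaklyEtale (Spec.map φ) := (FlatMor2.weaklyEtale_SpecMap_iff φ).2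
    (FlatMor2.isWeaklyEtaleHom_iff.2 (IndEt.weaklyEtale hind))
  have hsj : Surjective (Spec.map φ) :=
    ((flat_and_surjective_SpecMap_iff φ).2 (RingHom.faithfullyFlat_algebraMap_iff.2 hff)).2
  let V : X.ProEt := Scheme.ProEt.mk ((Spec.map φ ≫ W.left.isoSpec.inv) ≫ W.hom)
  let g : V ⟶ W := MorphismProperty.Over.homMk (Spec.map φ ≫ W.left.isoSpec.inv)
  refine ⟨V, g, inferInstanceAs (IsAffine (Spec (CommRingCat.of D))),
    inferInstanceAs (Surjective (Spec.map φ ≫ W.left.isoSpec.inv)), ?_⟩
  exact isWContractible_of_ringEquiv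
    (Scheme.ΓSpecIso (CommRingCat.of D)).symm.commRingCatIsoToRingEquiv hD

/-- From an affine open cover: a covering family of affine w-contractible objects. -/
theorem exists_wContractible_family_range (U : X.ProEt) (𝒰 : Scheme.OpenCover.{u} U.left)
    [∀ j, IsAffine (𝒰.X j)] :
    ∃ (V : 𝒰.I₀ → X.ProEt) (g : ∀ i, V i ⟶ U),
      Sieve.generate (Presieve.ofArrows V g) ∈ Scheme.ProEt.topology X U ∧
        ∀ i, (IsAffine (V i).left ∧ EtPBC.IsWContractible ↥(Γ((V i).left, ⊤))) ∧
          Set.range (g i).left ⊆ Set.range (𝒰.f i) := by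
  have : ∀ j, WeaklyEtale (𝒰.f j ≫ U.hom) := fun j =>
    MorphismProperty.comp_mem _ _ _ (inferInstanceAs (WeaklyEtale (𝒰.f j))) U.prop
  let W : 𝒰.I₀ → X.ProEt := fun j => Scheme.ProEt.mk (𝒰.f j ≫ U.hom)
  let w : ∀ j, W j ⟶ U := fun j => MorphismProperty.Over.homMk (𝒰.f j)
  have : ∀ j, IsOpenImmersion (w j).left := fun j => inferInstanceAs (IsOpenImmersion (𝒰.f j))
  have : ∀ j, IsAffine (W j).left := fun j => inferInstanceAs (IsAffine (𝒰.X j))
  choose V g hV hg hD using fun j => exists_wContractible_affine_cover (W j)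
  refine ⟨V, fun j => g j ≫ w j, ?_, fun j => ⟨⟨hV j, hD j⟩, ?_⟩⟩
  swap
  · rintro _ ⟨y, rfl⟩
    exact ⟨(g j).left y, rfl⟩
  have hW : Sieve.generate (Presieve.ofArrows W w) ∈ Scheme.ProEt.topology X U :=
    openImmersions_mem_topology W w fun x => ⟨𝒰.idx x, 𝒰.covers x⟩
  refine (Scheme.ProEt.topology X).transitive hW _ fun Y q hq => ?_
  obtain ⟨Z, a, b, ⟨j⟩, rfl⟩ := hq
  rw [Sieve.pullback_comp]
  refine (Scheme.ProEt.topology X).pullback_stable a ?_
  have := hV j
  have := hg j
  refine (Scheme.ProEt.topology X).superset_covering ?_ (singleton_mem_topology (g j))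
  rintro Y' q' ⟨Z', c, d, ⟨⟩, rfl⟩
  exact ⟨V j, c, _, Presieve.ofArrows.mk j, (Category.assoc _ _ _).symm⟩

theorem exists_wContractible_family (U : X.ProEt) (𝒰 : Scheme.OpenCover.{u} U.left)
    [∀ j, IsAffine (𝒰.X j)] :
    ∃ (V : 𝒰.I₀ → X.ProEt) (g : ∀ i, V i ⟶ U),
      Sieve.generate (Presieve.ofArrows V g) ∈ Scheme.ProEt.topology X U ∧
        ∀ i, IsAffine (V i).left ∧ EtPBC.IsWContractible ↥(Γ((V i).left, ⊤)) := by
  obtain ⟨V, g, h1, h2⟩ := exists_wContractible_family_range U 𝒰
  exact ⟨V, g, h1, fun i => (h2 i).1⟩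

theorem isWC_of_disjoint_cover {ι : Type*} {U : X.ProEt} (V : ι → X.ProEt) (g : ∀ i, V i ⟶ U)
    [∀ i, IsOpenImmersion (g i).left] (hcov : ∀ x : U.left, ∃ i, x ∈ Set.range (g i).left)
    (hdisj : ∀ i j, i ≠ j → Disjoint (Set.range (g i).left) (Set.range (g j).left))
    (h : ∀ i, ProEtS.IsWC (V i)) : ProEtS.IsWC U := by
  intro F G φ hφ s
  have : ∀ i, Mono (g i) := fun i => mono_of_mono_left _
  choose t ht using fun i => h i F G φ hφ (G.obj.map (g i).op s)
  have hc := openImmersions_mem_topology V g hcov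
  obtain ⟨a, ha⟩ := (bijective_of_disjoint_cover ((isSheaf_iff_isSheaf_of_type _ _).1 F.property)
    V g hc hdisj).2 t
  refine ⟨a, (bijective_of_disjoint_cover ((isSheaf_iff_isSheaf_of_type _ _).1 G.property)
    V g hc hdisj).1 (funext fun i => ?_)⟩
  change G.obj.map _ (φ.hom.app (op U) a) = G.obj.map _ s
  rw [← NatTrans.naturality_apply φ.hom, show F.obj.map (g i).op a = t i from congrFun ha i]
  exact ht i

section Sigma

variable {ι : Type w} [Small.{u} ι] (V : ι → X.ProEt)

/-- Disjoint union of objects. -/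
noncomputable def sigmaObj : X.ProEt :=
  haveI : WeaklyEtale (Sigma.desc fun i => (V i).hom) :=
    IsZariskiLocalAtSource.sigmaDesc fun i => (V i).prop
  Scheme.ProEt.mk (Sigma.desc fun i => (V i).hom)

/-- The inclusions. -/
noncomputable def sigmaIncl (i : ι) : V i ⟶ sigmaObj V :=
  MorphismProperty.Over.homMk (Sigma.ι (fun i => (V i).left) i)
    (Sigma.ι_desc (fun i => (V i).hom) i)

/-- The universal map. -/
noncomputable def sigmaDesc {U : X.ProEt} (g : ∀ i, V i ⟶ U) : sigmaObj V ⟶ U :=
  MorphismProperty.Over.homMk (Sigma.desc fun i => (g i).left) (by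
    refine Sigma.hom_ext _ _ fun i => ?_
    refine ((Sigma.ι_desc_assoc (fun i => (g i).left) i U.hom).trans ?_)
    exact (MorphismProperty.Over.w (g i)).trans (Sigma.ι_desc (fun i => (V i).hom) i).symm)

lemma sigmaIncl_desc {U : X.ProEt} (g : ∀ i, V i ⟶ U) (i : ι) :
    sigmaIncl V i ≫ sigmaDesc V g = g i :=
  MorphismProperty.Over.Hom.ext (Sigma.ι_desc (fun i => (g i).left) i)

theorem isWC_sigmaObj (h : ∀ i, ProEtS.IsWC (V i)) : ProEtS.IsWC (sigmaObj V) := by
  have : ∀ i, IsOpenImmersion (sigmaIncl V i).left := fun i =>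
    inferInstanceAs (IsOpenImmersion (Sigma.ι (fun i => (V i).left) i))
  refine isWC_of_disjoint_cover V (sigmaIncl V) (fun x => ?_) (fun i j e => ?_) h
  · obtain ⟨y, hy⟩ := (sigmaOpenCover (fun i => (V i).left)).covers x
    exact ⟨_, y, hy⟩
  · refine Set.disjoint_left.2 ?_
    rintro x ⟨a, rfl⟩ ⟨b, hb⟩
    have := (sigmaι_eq_iff (fun i => (V i).left) j i b a).1 hb
    exact e (congrArg Sigma.fst this).symm

lemma sigmaDesc_mem_topology {U : X.ProEt} (g : ∀ i, V i ⟶ U)
    (h : Sieve.generate (Presieve.ofArrows V g) ∈ Scheme.ProEt.topology X U) :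
    Sieve.generate (Presieve.singleton (sigmaDesc V g)) ∈ Scheme.ProEt.topology X U := by
  refine (Scheme.ProEt.topology X).superset_covering ?_ h
  rw [Sieve.generate_le_iff, Presieve.ofArrows_le_iff]
  exact fun i => ⟨_, sigmaIncl V i, _, ⟨⟩, sigmaIncl_desc V g i⟩

end Sigma

/-- Sections of a product preserving presheaf over a finite decomposition. -/
theorem bijective_of_preservesFiniteProducts (F : X.ProEtᵒᵖ ⥤ Type w) [PreservesFiniteProducts F]
    {n : ℕ} {U : X.ProEt} (W : Fin n → U.left.Opens)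
    (hdisj : Pairwise fun k l => Disjoint (W k : Set ↥U.left) (W l))
    (hcov : (⋃ k, (W k : Set ↥U.left)) = Set.univ) :
    Function.Bijective fun (x : F.obj (op U)) (k : Fin n) => F.map (openHom (W k)).op x := by
  let c : Cofan fun k => Scheme.ProEt.mk ((W k).ι ≫ U.hom) :=
    Cofan.mk U fun k => openHom (W k)
  have hb := fun T : X.ProEt => bijective_of_decomposition
    (GrothendieckTopology.Subcanonical.isSheaf_of_isRepresentable
      (J := Scheme.ProEt.topology X) (yoneda.obj T)) W hdisj hcov
  have hc : IsColimit c := Cofan.IsColimit.mk _ (fun s => ((hb s.pt).2 s.inj).choose)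
    (fun s k => congrFun ((hb s.pt).2 s.inj).choose_spec k)
    (fun s m hm => (hb s.pt).1 ((funext hm).trans ((hb s.pt).2 s.inj).choose_spec.symm))
  have h1 : IsLimit (Fan.mk (op U) fun k => (openHom (W k)).op) := Cofan.IsColimit.op hc
  have h2 := isLimitFanMkObjOfIsLimit F _ _ h1
  have h3 := (Types.isLimit_iff _).1 ⟨h2⟩
  rw [Function.bijective_iff_existsUnique]
  intro t
  obtain ⟨a, ha, hu⟩ := h3 (fun j => t j.as) (by
    intro i j f
    obtain rfl : i = j := Discrete.ext (Discrete.eq_of_hom f)
    obtain rfl : f = 𝟙 i := Subsingleton.elim _ _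
    simp)
  exact ⟨a, funext fun k => ha ⟨k⟩, fun b hb => hu b fun j => congrFun hb j.as⟩

/-- A presheaf sending decompositions to products agrees with its sheafification on affine weakly contractible
objects. -/
theorem toSheafify_bijective_of_decomposition (F : X.ProEtᵒᵖ ⥤ Type (u + 1))
    (W : X.ProEt) (h : HasClopenRefinements W)
    (hF : ∀ {n : ℕ} (O : Fin n → W.left.Opens),
      (Pairwise fun k l => Disjoint (O k : Set ↥W.left) (O l)) →
      (⋃ k, (O k : Set ↥W.left)) = Set.univ →
      Function.Bijective fun (x : F.obj (op W)) (k : Fin n) => F.map (openHom (O k)).op x) :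
    Function.Bijective ((toSheafify (Scheme.ProEt.topology X) F).app (op W)) := by
  let J := Scheme.ProEt.topology X
  constructor
  · intro a b hab
    obtain ⟨n, O, -, hdisj, hcov, hmem⟩ :=
      h _ (Presheaf.equalizerSieve_mem J (toSheafify J F) a b hab)
    exact (hF O hdisj hcov).1 (funext hmem)
  · intro s
    obtain ⟨n, O, -, hdisj, hcov, hmem⟩ :=
      h _ (Presheaf.imageSieve_mem J (toSheafify J F) s)
    choose t ht using hmem
    obtain ⟨a, ha⟩ := (hF O hdisj hcov).2 t
    refine ⟨a, (bijective_of_decomposition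
      ((isSheaf_iff_isSheaf_of_type _ _).1 ((presheafToSheaf J (Type (u + 1))).obj F).property) O hdisj hcov).1
      (funext fun k => ?_)⟩
    change (sheafify J F).map _ ((toSheafify J F).app (op W) a) = (sheafify J F).map _ s
    rw [← NatTrans.naturality_apply (toSheafify J F),
      show F.map (openHom (O k)).op a = t k from congrFun ha k]
    exact ht k

/-- A product preserving presheaf agrees with its sheafification on affine weakly contractible
objects. -/
theorem toSheafify_bijective (F : X.ProEtᵒᵖ ⥤ Type (u + 1))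
    [PreservesFiniteProducts F] (W : X.ProEt) (h : HasClopenRefinements W) :
    Function.Bijective ((toSheafify (Scheme.ProEt.topology X) F).app (op W)) :=
  toSheafify_bijective_of_decomposition F W h fun O hd hc =>
    bijective_of_preservesFiniteProducts F O hd hc

end Groth.EtaleDeep.ProEt
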