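import Groth.Agent.EtaleDeep.ProEt.Objects
import Groth.Agent.EtaleDeep.IndEt.WContrFinite
import Groth.Agent.EtaleDeep.IndEt.WContrClosed

/-!
# Exactness on the small pro-etale site via weakly contractible objects
-/

set_option autoImplicit false
set_option backward.isDefEq.respectTransparency.types false
set_option linter.style.haveILetI false

universe w u

open CategoryTheory CategoryTheory.Limits AlgebraicGeometry Opposite

namespace Groth.EtaleDeep.ProEt

variable {X Z : Scheme.{u}}

/-- An epimorphism of abelian sheaves is surjective on weakly contractible objects. -/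
theorem surjective_of_epi {F G : ProEtS.AbP X} (φ : F ⟶ G) [Epi φ] {W : X.ProEt}
    (hW : ProEtS.IsWC W) : Function.Surjective (φ.hom.app (op W)) := by
  have : Sheaf.IsLocallySurjective φ :=
    (Sheaf.isLocallySurjective_iff_epi' AddCommGrpCat.{u + 1} φ).2 ‹_›
  have : Sheaf.IsLocallySurjective
      ((sheafCompose (Scheme.ProEt.topology X) (forget AddCommGrpCat.{u + 1})).map φ) :=
    (Presheaf.isLocallySurjective_iff_whisker_forget _ _).1 ‹_›
  exact hW _ _ _ ((Sheaf.isLocallySurjective_iff_epi' (Type (u + 1)) _).1 this)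

/-- A morphism of sheaves surjective on affine weakly contractible objects is an epimorphism. -/
theorem epi_of_surjective {F G : ProEtS.AbP X} (φ : F ⟶ G)
    (h : ∀ W : X.ProEt, IsAffine W.left → ProEtS.IsWC W →
      Function.Surjective (φ.hom.app (op W))) : Epi φ := by
  refine (Sheaf.isLocallySurjective_iff_epi' AddCommGrpCat.{u + 1} φ).1 ⟨fun {U} s => ?_⟩
  obtain ⟨V, g, hg, hV⟩ := exists_wContractible_family U U.left.affineCover
  refine (Scheme.ProEt.topology X).superset_covering ?_ hg
  rw [Sieve.generate_le_iff, Presieve.ofArrows_le_iff]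
  intro i
  have := (hV i).1
  obtain ⟨t, ht⟩ := h (V i) this ((isWContractible_iff_isWC (V i)).1 (hV i).2)
    (G.obj.map (g i).op s)
  exact ⟨t, ht⟩

/-- If base change along `f` preserves affine weakly contractible objects, `f_*` is exact. -/
theorem pushP_exact (f : Z ⟶ X) [ProEtS.PCont f]
    (hf : ∀ W : X.ProEt, IsAffine W.left → ProEtS.IsWC W →
      ProEtS.IsWC ((ProEtS.bcP f).obj W)) :
    PreservesFiniteLimits (ProEtS.pushP f) ∧ PreservesFiniteColimits (ProEtS.pushP f) := by
  have hl : PreservesFiniteLimits (ProEtS.pushP f) :=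
    have := (ProEtS.pullPushAdjP f).rightAdjoint_preservesLimits
    inferInstance
  refine ⟨hl, (Functor.preservesFiniteColimits_iff_forall_exact_map_and_epi _).2 fun S hS => ?_⟩
  refine ⟨((Functor.preservesFiniteLimits_iff_forall_exact_map_and_mono _).1 hl S hS).1, ?_⟩
  have := hS.epi_g
  exact epi_of_surjective _ fun W hW hWC => surjective_of_epi S.g (hf W hW hWC)

theorem isWC_bcP_of_finite (f : Z ⟶ X) [IsFinite f] [LocallyOfFinitePresentation f]
    (W : X.ProEt) [IsAffine W.left] (hW : ProEtS.IsWC W) :
    ProEtS.IsWC ((ProEtS.bcP f).obj W) := by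
  let p : ((ProEtS.bcP f).obj W).left ⟶ W.left := pullback.fst W.hom f
  have : IsFinite p := MorphismProperty.pullback_fst W.hom f inferInstance
  have : LocallyOfFinitePresentation p := MorphismProperty.pullback_fst W.hom f inferInstance
  have : IsAffine ((ProEtS.bcP f).obj W).left := isAffine_of_isAffineHom p
  letI := p.appTop.hom.toAlgebra
  have : Module.Finite Γ(W.left, ⊤) Γ(((ProEtS.bcP f).obj W).left, ⊤) := p.finite_appTop
  have : Algebra.FinitePresentation Γ(W.left, ⊤) Γ(((ProEtS.bcP f).obj W).left, ⊤) :=
    HasRingHomProperty.appTop (P := @LocallyOfFinitePresentation) p inferInstance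
  exact (isWContractible_iff_isWC _).1
    (IndEt.isWContractible_of_finite ((isWContractible_iff_isWC W).2 hW))

theorem isWC_bcP_of_closedImmersion (f : Z ⟶ X) [IsClosedImmersion f]
    (hr : IsRetrocompact (Set.range f.base)ᶜ)
    (W : X.ProEt) [IsAffine W.left] (hW : ProEtS.IsWC W) :
    ProEtS.IsWC ((ProEtS.bcP f).obj W) := by
  let p : ((ProEtS.bcP f).obj W).left ⟶ W.left := pullback.fst W.hom f
  have : IsClosedImmersion p := MorphismProperty.pullback_fst W.hom f inferInstance
  have : IsAffine ((ProEtS.bcP f).obj W).left := isAffine_of_isAffineHom p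
  letI := p.appTop.hom.toAlgebra
  have hs : Function.Surjective p.appTop := (IsClosedImmersion.isAffine_surjective_of_isAffine p).2
  -- the complement of the image is quasi-compact
  let O : X.Opens := ⟨(Set.range f)ᶜ, f.isClosedEmbedding.isClosed_range.isOpen_compl⟩
  have : QuasiCompact O.ι := (quasiCompact_iff O.ι).2 fun U hU hUc => by
    rw [O.ι.isOpenEmbedding.isEmbedding.isCompact_iff, Set.image_preimage_eq_inter_range,
      Scheme.Opens.range_ι, Set.inter_comm]
    exact hr hUc hU
  let q : pullback W.hom O.ι ⟶ W.left := pullback.fst W.hom O.ι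
  have : QuasiCompact q := MorphismProperty.pullback_fst W.hom O.ι inferInstance
  have : CompactSpace ↥(pullback W.hom O.ι) := QuasiCompact.compactSpace_of_compactSpace q
  have hWc : IsCompact (Set.range p)ᶜ := by
    have h1 : Set.range q = W.hom ⁻¹' Set.range O.ι := Scheme.Pullback.range_fst W.hom O.ι
    have h2 : Set.range p = W.hom ⁻¹' Set.range f := Scheme.Pullback.range_fst W.hom f
    rw [h2, ← Set.preimage_compl]
    have h3 : Set.range q = W.hom ⁻¹' (Set.range f)ᶜ := by rw [h1, Scheme.Opens.range_ι]; rfl
    exact h3 ▸ isCompact_range q.continuous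
  have hiso : Set.range (PrimeSpectrum.comap (algebraMap Γ(W.left, ⊤)
      Γ(((ProEtS.bcP f).obj W).left, ⊤))) = W.left.isoSpec.hom '' Set.range p := by
    have h1 : Spec.map p.appTop = ((ProEtS.bcP f).obj W).left.isoSpec.inv ≫ p ≫
        W.left.isoSpec.hom := by
      rw [← Scheme.isoSpec_inv_naturality_assoc, Iso.inv_hom_id, Category.comp_id]
    change Set.range (Spec.map p.appTop) = _
    rw [h1]
    refine Eq.trans ((Scheme.Hom.homeomorph
      ((ProEtS.bcP f).obj W).left.isoSpec.inv).surjective.range_comp
      (fun x => W.left.isoSpec.hom (p x))) ?_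
    exact Set.range_comp _ _
  exact (isWContractible_iff_isWC _).1
    (IndEt.isWContractible_of_surjective_of_isCompact hs (by
      have h1 := Set.image_compl_eq (s := Set.range p)
        (show Function.Bijective (W.left.isoSpec.hom : W.left → Spec Γ(W.left, ⊤)) from
          (Scheme.Hom.homeomorph W.left.isoSpec.hom).bijective)
      exact Eq.mpr (congrArg IsCompact ((congrArg compl hiso).trans h1.symm))
        (hWc.image (W.left.isoSpec.hom).continuous))
      ((isWContractible_iff_isWC W).2 hW))

end Groth.EtaleDeep.ProEt
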