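import Groth.Agent.EtaleDeep.ProEt.Basic

/-!
# Sections of extensions by zero
-/

set_option autoImplicit false
set_option backward.isDefEq.respectTransparency.types false
set_option linter.style.haveILetI false

universe u

open CategoryTheory CategoryTheory.Limits AlgebraicGeometry Opposite

namespace Groth.EtaleDeep.ProEt

variable {X : Scheme.{u}}

/-- A finite jointly surjective family of affine objects covers an affine object. -/
theorem affine_family_mem_topology {ι : Type} [Finite ι] {U : X.ProEt} [IsAffine U.left]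
    (V : ι → X.ProEt) (g : ∀ i, V i ⟶ U) [∀ i, IsAffine (V i).left]
    (hcov : ∀ x : U.left, ∃ i, x ∈ Set.range (g i).left) :
    Sieve.generate (Presieve.ofArrows V g) ∈ Scheme.ProEt.topology X U := by
  refine mem_topology_of_mem_precoverage V g ?_
  let 𝒰 : U.left.Cover (Scheme.precoverage @WeaklyEtale) :=
    { I₀ := ι
      X := fun i => (V i).left
      f := fun i => (g i).left
      mem₀ := by
        rw [Scheme.presieve₀_mem_precoverage_iff]
        exact ⟨hcov, fun i => weaklyEtale_left (g i)⟩ }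
  have : Finite 𝒰.I₀ := ‹Finite ι›
  have : ∀ i, QuasiCompact (𝒰.f i) := fun i =>
    (inferInstance : QuasiCompact (g i).left)
  exact ⟨(Scheme.presieve₀_mem_qcPrecoverage_iff (E := 𝒰.toPreZeroHypercover)).2
    QuasiCompactCover.of_finite, 𝒰.mem₀⟩

variable {U Z : Scheme.{u}} (j : U ⟶ X) [WeaklyEtale j]

theorem isZero_lan_of_not_mem (F : U.ProEtᵒᵖ ⥤ AddCommGrpCat.{u + 1}) {W : X.ProEt}
    (y : W.left) (hy : W.hom y ∉ Set.range j) :
    IsZero (((ProEtS.compP j).op.leftKanExtension F).obj (op W)) := by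
  refine (IsZero.iff_id_eq_zero _).2 (((ProEtS.compP j).op.isPointwiseLeftKanExtensionLeftKanExtensionUnit
    F (op W)).hom_ext fun k => absurd ?_ hy)
  have h := congrArg (fun m => m y) (MorphismProperty.Over.w k.hom.unop)
  exact ⟨k.left.unop.hom (k.hom.unop.left y), h⟩

theorem subsingleton_extZeroP_sections [ProEtS.JPCont j] (i : Z ⟶ X)
    (hUZ : Disjoint (Set.range j.base) (Set.range i.base)) (V : X.ProEt) [IsAffine V.left]
    (hV : ∀ v : ↥V.left, ∃ z : ↥V.left, V.hom.base z ∈ Set.range i.base ∧ v ⤳ z)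
    (F : ProEtS.AbP U) :
    Subsingleton (ProEtS.sectP ((ProEtS.extZeroP j).obj F) V) := by
  let J := Scheme.ProEt.topology X
  let P := (ProEtS.compP j).op.leftKanExtension F.obj
  let E := (presheafToSheaf J AddCommGrpCat.{u + 1}).obj P
  let e : (ProEtS.extZeroP j).obj F ≅ E :=
    (Functor.sheafPullbackConstruction.sheafPullbackIso (ProEtS.compP j) AddCommGrpCat.{u + 1}
      (Scheme.ProEt.topology U) J).app F
  suffices h : Subsingleton (E.obj.obj (op V)) from
    @Equiv.subsingleton _ _
      (((sheafToPresheaf _ _).mapIso e).app (op V)).addCommGroupIsoToAddEquiv.toEquiv h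
  refine subsingleton_of_forall_eq (0 : E.obj.obj (op V)) fun s => ?_
  obtain ⟨n, W, g, hW, hcov, hmem⟩ :=
    exists_affine_refinement (Presheaf.imageSieve_mem J (toSheafify J P) s)
  let ι := {k : Fin n // ∃ y, (W k).hom y ∈ Set.range i}
  have hι : ∀ x : V.left, ∃ k : ι, x ∈ Set.range (g k.1).left := fun x => by
    obtain ⟨z, hz, hxz⟩ := hV x
    obtain ⟨k, y, rfl⟩ := hcov z
    have := weaklyEtale_left (g k)
    obtain ⟨y', -, hy'⟩ := (Flat.generalizingMap (g k).left) hxz
    refine ⟨⟨k, y, ?_⟩, y', hy'⟩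
    have h := congrArg (fun m => m y) (MorphismProperty.Over.w (g k))
    rw [← h]
    exact hz
  have : ∀ k : ι, IsAffine (W k.1).left := fun k => hW k.1
  have hc := affine_family_mem_topology (fun k : ι => W k.1) (fun k => g k.1) hι
  have hsep := ((isSheaf_iff_isSheaf_of_type _ _).1
    ((sheafCompose J (forget AddCommGrpCat.{u + 1})).obj E).property _ hc).isSeparatedFor
  refine hsep.ext ?_
  rintro Y q ⟨Y', a, b, ⟨k⟩, rfl⟩
  change E.obj.map (a ≫ g k.1).op s = E.obj.map (a ≫ g k.1).op 0
  rw [map_zero, op_comp, Functor.map_comp_apply]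
  suffices E.obj.map (g k.1).op s = 0 by rw [this, map_zero]
  obtain ⟨t, ht⟩ := hmem k.1
  obtain ⟨y, hy⟩ := k.2
  have : Subsingleton (P.obj (op (W k.1))) :=
    AddCommGrpCat.subsingleton_of_isZero
      (isZero_lan_of_not_mem j F.obj y fun h => Set.disjoint_left.1 hUZ h hy)
  refine ht.symm.trans ?_
  rw [Subsingleton.elim t 0, map_zero]

end Groth.EtaleDeep.ProEt
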