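import Groth.Agent.EtaleDeep.ProEt.Basic
import Mathlib.CategoryTheory.Sites.CoverLifting
import Mathlib.CategoryTheory.Adjunction.Triple

/-!
# Localisation of the small pro-etale site
-/

set_option autoImplicit false
set_option backward.isDefEq.respectTransparency.types false
set_option linter.style.haveILetI false

universe u

open CategoryTheory CategoryTheory.Limits AlgebraicGeometry Opposite

namespace Groth.EtaleDeep.ProEt

variable {U X : Scheme.{u}} (j : U ⟶ X) [WeaklyEtale j]

/-- Covers lift along composition with a weakly etale morphism. -/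
theorem compP_isCocontinuous :
    (ProEtS.compP j).IsCocontinuous (Scheme.ProEt.topology U) (Scheme.ProEt.topology X) := by
  refine ⟨fun {V S} hS => ?_⟩
  rw [ProEtSite.mem_topology_iff, GrothendieckTopology.mem_over_iff] at hS ⊢
  refine Scheme.proetaleTopology.superset_covering ?_ hS
  intro T q hq
  have h1 := (Sieve.overEquiv_iff _ _).1 hq
  obtain ⟨Z, g, a, hg, hfac⟩ := h1
  apply (Sieve.overEquiv_iff _ _).2
  have := weaklyEtale_left g
  have : WeaklyEtale (g.left ≫ V.hom) :=
    MorphismProperty.comp_mem @WeaklyEtale g.left V.hom (weaklyEtale_left g) V.prop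
  let Z' : U.ProEt := Scheme.ProEt.mk (g.left ≫ V.hom)
  let g' : Z' ⟶ V := MorphismProperty.Over.homMk g.left
  let e : (ProEtS.compP j).obj Z' ⟶ Z := MorphismProperty.Over.homMk (𝟙 _) (by
    exact (Category.id_comp _).trans (((MorphismProperty.Over.w g).symm).trans
      (Category.assoc _ _ _).symm))
  refine ⟨Z', g', Over.homMk a.left ?_, ?_, ?_⟩
  · have hl : q = a.left ≫ g.left := congrArg (fun r => r.left) hfac
    change a.left ≫ g.left ≫ V.hom = q ≫ V.hom
    exact ((congrArg (· ≫ V.hom) hl).trans (Category.assoc _ _ _)).symm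
  · have he : (ProEtS.compP j).map g' = e ≫ g :=
      MorphismProperty.Over.Hom.ext (Category.id_comp _).symm
    change S.arrows ((ProEtS.compP j).map g')
    rw [he]
    exact S.downward_closed hg e
  · exact Over.OverMorphism.ext (congrArg (fun r => r.left) hfac)

variable [IsOpenImmersion j]

lemma compP_faithful : (ProEtS.compP j).Faithful :=
  ⟨fun h => MorphismProperty.Over.Hom.ext (congrArg (fun r => r.left) h :)⟩

lemma compP_full : (ProEtS.compP j).Full :=
  ⟨fun {A B} g => ⟨MorphismProperty.Over.homMk g.left (by
    have h := MorphismProperty.Over.w g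
    rw [← cancel_mono j, Category.assoc]
    exact h), MorphismProperty.Over.Hom.ext rfl⟩⟩

theorem isIso_unit_extZeroP [ProEtS.JPCont j] (F : ProEtS.AbP U) :
    IsIso ((ProEtS.extZeroPAdj j).unit.app F) := by
  have := compP_isCocontinuous j
  have := compP_faithful j
  have := compP_full j
  let t : Adjunction.Triple (ProEtS.extZeroP j) (ProEtS.restrP j)
      ((ProEtS.compP j).sheafPushforwardCocontinuous AddCommGrpCat.{u + 1}
        (Scheme.ProEt.topology U) (Scheme.ProEt.topology X)) :=
    ⟨ProEtS.extZeroPAdj j, (ProEtS.compP j).sheafAdjunctionCocontinuous AddCommGrpCat.{u + 1}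
      (Scheme.ProEt.topology U) (Scheme.ProEt.topology X)⟩
  have : IsIso t.adj₂.counit := by
    have : ∀ G, IsIso (t.adj₂.counit.app G) := fun G => by
      have : IsIso ((sheafToPresheaf _ _).map (t.adj₂.counit.app G)) := by
        have h := (ProEtS.compP j).sheafAdjunctionCocontinuous_counit_app_hom AddCommGrpCat.{u + 1}
          (Scheme.ProEt.topology U) (Scheme.ProEt.topology X) G
        change IsIso (((ProEtS.compP j).sheafAdjunctionCocontinuous AddCommGrpCat.{u + 1}
          (Scheme.ProEt.topology U) (Scheme.ProEt.topology X)).counit.app G).hom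
        rw [h]
        have : (ProEtS.compP j).op.Full := inferInstance
        have : (ProEtS.compP j).op.Faithful := inferInstance
        have : ∀ F : U.ProEtᵒᵖ ⥤ AddCommGrpCat.{u + 1},
            (ProEtS.compP j).op.HasPointwiseRightKanExtension F := fun F => inferInstance
        have : IsIso ((ProEtS.compP j).op.ranAdjunction AddCommGrpCat.{u + 1}).counit :=
          Functor.reflective' (ProEtS.compP j).op
        exact NatIso.isIso_app_of_isIso ((ProEtS.compP j).op.ranAdjunction AddCommGrpCat.{u + 1}).counit G.obj
      exact isIso_of_reflects_iso _ (sheafToPresheaf _ _)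
    exact NatIso.isIso_of_isIso_app _
  have := (t.isIso_unit_iff_isIso_counit).2 this
  exact inferInstanceAs (IsIso (t.adj₁.unit.app F))

/-- `j_*` is fully faithful for an open immersion. -/
theorem isIso_counit_pushP [ProEtS.JPCont j] [ProEtS.PCont j] (G : ProEtS.AbP U) :
    IsIso ((ProEtS.pullPushAdjP j).counit.app G) := by
  have := compP_faithful j
  have := compP_full j
  let adj : ProEtS.compP j ⊣ ProEtS.bcP j :=
    MorphismProperty.Over.mapPullbackAdj @WeaklyEtale ⊤ j ‹_› trivial
  let adj' : ProEtS.restrP j ⊣ ProEtS.pushP j :=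
    adj.sheafPushforwardContinuous (Scheme.ProEt.topology U) (Scheme.ProEt.topology X)
  have : IsIso adj.unit := inferInstance
  have : ∀ H, IsIso (adj'.counit.app H) := fun H => by
    have : IsIso ((sheafToPresheaf _ _).map (adj'.counit.app H)) := by
      have h : ∀ V, IsIso (((sheafToPresheaf _ _).map (adj'.counit.app H)).app V) := fun V =>
        inferInstanceAs (IsIso (H.obj.map (adj.unit.app V.unop).op))
      exact NatIso.isIso_of_isIso_app _
    exact isIso_of_reflects_iso _ (sheafToPresheaf _ _)
  have : IsIso adj'.counit := NatIso.isIso_of_isIso_app _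
  have := adj'.fullyFaithfulROfIsIsoCounit.full
  have := adj'.fullyFaithfulROfIsIsoCounit.faithful
  infer_instance

end Groth.EtaleDeep.ProEt
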