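import Groth.Agent.EtaleDeep.ProEt.ClosedPullback
import Groth.Agent.EtaleDeep.ProEt.ExtZero
import Groth.Agent.EtaleDeep.ProEt.Local
import Groth.Agent.EtaleDeep.ProEt.Exact

/-!
# The sequence `0 → j_! j⁻¹ F → F → i_* i⁻¹ F → 0`
-/

set_option autoImplicit false
set_option backward.isDefEq.respectTransparency.types false
set_option linter.style.haveILetI false

universe w u

open CategoryTheory CategoryTheory.Limits AlgebraicGeometry Opposite

namespace Groth.EtaleDeep.ProEt

variable {X Z U : Scheme.{u}}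

/-- A clopen piece of a small weakly contractible object is one. -/
theorem isSmallWC_piece {V : X.ProEt} (hV : IsSmallWC (𝟙 X) V) (O : V.left.Opens)
    (hO : IsClopen (O : Set V.left)) :
    IsSmallWC (𝟙 X) (Scheme.ProEt.mk (O.ι ≫ V.hom)) := by
  have := hV.isAffine
  have : IsClosedImmersion O.ι := .of_isPreimmersion _ (by rw [Scheme.Opens.range_ι]; exact hO.1)
  have hOa : IsAffine O.toScheme := isAffine_of_isAffineHom O.ι
  refine ⟨hOa, ?_, ?_⟩
  · letI := O.ι.appTop.hom.toAlgebra
    have hs : Function.Surjective O.ι.appTop :=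
      (IsClosedImmersion.isAffine_surjective_of_isAffine O.ι).2
    refine IndEt.isWContractible_of_surjective_of_isCompact (A := Γ(V.left, ⊤))
      (B := Γ(O.toScheme, ⊤)) hs ?_ hV.isWC
    have h1 : Spec.map O.ι.appTop = O.toScheme.isoSpec.inv ≫ O.ι ≫ V.left.isoSpec.hom := by
      rw [← Scheme.isoSpec_inv_naturality_assoc, Iso.inv_hom_id, Category.comp_id]
    have h2 : Set.range (PrimeSpectrum.comap (algebraMap Γ(V.left, ⊤) Γ(O.toScheme, ⊤))) =
        V.left.isoSpec.hom '' (O : Set V.left) := by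
      change Set.range (Spec.map O.ι.appTop) = _
      rw [h1]
      refine Eq.trans ((Scheme.Hom.homeomorph O.toScheme.isoSpec.inv).surjective.range_comp
        (fun x => V.left.isoSpec.hom (O.ι x))) ?_
      exact (Set.range_comp _ _).trans (congrArg _ O.range_ι)
    rw [h2]
    have h3 := Set.image_compl_eq (s := (O : Set V.left))
      (show Function.Bijective (V.left.isoSpec.hom : V.left → Spec Γ(V.left, ⊤)) from
        (Scheme.Hom.homeomorph V.left.isoSpec.hom).bijective)
    exact h3 ▸ (hO.2.isClosed_compl.isCompact.image V.left.isoSpec.hom.continuous)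
  · obtain ⟨W, hW, hVW⟩ := hV.base
    refine ⟨W, hW, ?_⟩
    rintro _ ⟨x, rfl⟩
    exact hVW ⟨O.ι x, rfl⟩

/-- A closed point splitting of a w-local affine scheme along a quasi-compact open. -/
theorem exists_split {V : X.ProEt} [IsAffine V.left]
    (hV : EtPBC.IsWContractible Γ(V.left, ⊤)) (G : Set V.left) (hG : IsOpen G) (hGc : IsCompact G) :
    ∃ O : Fin 2 → V.left.Opens, (∀ k, IsClopen (O k : Set V.left)) ∧
      Pairwise (fun k l => Disjoint (O k : Set V.left) (O l)) ∧
      (⋃ k, (O k : Set V.left)) = Set.univ ∧ (O 1 : Set V.left) ⊆ G ∧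
      ∀ v ∈ O 0, ∃ z ∈ O 0, z ∉ G ∧ v ⤳ z := by
  obtain ⟨hw, -, -⟩ := IndEt.isWContractible_iff_indEtale.2 (IndEt.isWContractible_iff_indEtale.1 hV)
  have hwl : ProEtW.IsWLocal V.left :=
    IndEt.isWLocal_of_homeomorph (Scheme.Hom.homeomorph V.left.isoSpec.hom) hw
  have := hwl.1
  obtain ⟨e, he⟩ := PiZero.exists_homeomorph_closedPoints hwl
  let C₀ : Set (ProEtW.closedPoints V.left) := Subtype.val ⁻¹' G
  have hcl : IsClosed (ProEtW.closedPoints V.left) := hwl.2.1
  obtain ⟨_, _, _⟩ := PiZero.isProfinite_closedPoints hwl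
  have hC₀ : IsClopen C₀ := by
    refine ⟨?_, hG.preimage continuous_subtype_val⟩
    have : IsCompact C₀ := by
      rw [Subtype.isCompact_iff, Subtype.image_preimage_coe]
      exact hGc.inter_left hcl
    exact this.isClosed
  let T : Set V.left := _root_.ConnectedComponents.mk ⁻¹' (e '' C₀)
  have hT : IsClopen T :=
    (show IsClopen (e '' C₀) from ⟨e.isClosed_image.2 hC₀.1, e.isOpen_image.2 hC₀.2⟩).preimage
      ConnectedComponents.continuous_coe
  have hretr : ∀ v, (⟨PiZero.retr hwl v, PiZero.isClosed_retr hwl v⟩ :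
      ProEtW.closedPoints V.left) ∈ C₀ ↔ v ∈ T := fun v => by
    change _ ↔ _root_.ConnectedComponents.mk v ∈ e '' C₀
    rw [← PiZero.mk_retr hwl v, ← he ⟨PiZero.retr hwl v, PiZero.isClosed_retr hwl v⟩]
    exact (e.injective.mem_set_image).symm
  refine ⟨![⟨Tᶜ, hT.1.isOpen_compl⟩, ⟨T, hT.2⟩], ?_, ?_, ?_, ?_, ?_⟩
  · intro k
    fin_cases k
    · exact hT.compl
    · exact hT
  · intro k l hkl
    fin_cases k <;> fin_cases l <;> first | exact absurd rfl hkl | skip
    · exact disjoint_compl_left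
    · exact disjoint_compl_right
  · refine Set.eq_univ_of_forall fun v => Set.mem_iUnion.2 ?_
    by_cases h : v ∈ T
    · exact ⟨1, h⟩
    · exact ⟨0, h⟩
  · exact fun v hv => (PiZero.specializes_retr hwl v).mem_open hG ((hretr v).2 hv)
  · intro v hv
    refine ⟨PiZero.retr hwl v, ?_, fun h => hv ((hretr v).1 h), PiZero.specializes_retr hwl v⟩
    exact (PiZero.specializes_retr hwl v).mem_closed hT.compl.1 hv

variable (i : Z ⟶ X) [IsClosedImmersion i] [ProEtS.PCont i]

/-- A weakly contractible object with all closed points over `Z` is the lift of its restriction. -/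
theorem nonempty_henselLift_self (hr : IsRetrocompact (Set.range i.base)ᶜ) {V : X.ProEt}
    (hV : IsSmallWC (𝟙 X) V)
    (hcl : ∀ v : V.left, ∃ z : V.left, V.hom z ∈ Set.range i ∧ v ⤳ z) :
    IsSmallWC i ((ProEtS.bcP i).obj V) ∧
      ∃ L : HenselLift i ((ProEtS.bcP i).obj V), ∃ h : L.obj = V, L.a = eqToHom (by rw [h]) := by
  have := hV.isAffine
  let W := (ProEtS.bcP i).obj V
  have hp : IsClosedImmersion (bcFst i V) := MorphismProperty.pullback_fst V.hom i inferInstance
  have hWa : IsAffine W.left := isAffine_of_isAffineHom (bcFst i V)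
  have hW : IsSmallWC i W := by
    refine ⟨hWa, (isWContractible_iff_isWC W).2 (isWC_bcP_of_closedImmersion i hr V
      ((isWContractible_iff_isWC V).1 hV.isWC)), ?_⟩
    obtain ⟨O, hO, hVO⟩ := hV.base
    refine ⟨O, hO, ?_⟩
    rintro _ ⟨x, rfl⟩
    rw [show W.hom ≫ i = bcFst i V ≫ V.hom from (pullback.condition).symm]
    exact hVO ⟨bcFst i V x, by simp⟩
  refine ⟨hW, ?_⟩
  obtain ⟨L⟩ := nonempty_henselLift i hW
  have := L.isAffine
  have := L.isIso
  obtain ⟨m, hm⟩ := L.exists_lift V (𝟙 W)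
  have hsurj : Surjective m.left := by
    refine ⟨fun v => ?_⟩
    obtain ⟨z, hz, hvz⟩ := hcl v
    obtain ⟨y, hy⟩ : z ∈ Set.range (bcFst i V) := by
      rw [show Set.range (bcFst i V) = V.hom ⁻¹' Set.range i from
        Scheme.Pullback.range_fst V.hom i]
      exact hz
    have hzm : z ∈ Set.range m.left := by
      refine ⟨bcFst i L.obj (L.a.left y), ?_⟩
      have h1 : (L.a ≫ (ProEtS.bcP i).map m).left ≫ bcFst i V =
          (L.a.left ≫ bcFst i L.obj) ≫ m.left := by
        refine (Category.assoc _ _ _).trans ((congrArg (_ ≫ ·) (bcMap_left_fst i m)).trans ?_)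
        exact (Category.assoc _ _ _).symm
      rw [hm] at h1
      exact ((congrArg (fun q => q y) h1).symm.trans hy)
    obtain ⟨x, hx⟩ := hzm
    subst hx
    have := weaklyEtale_left m
    obtain ⟨x', -, hx'⟩ := (Flat.generalizingMap m.left) hvz
    exact ⟨x', hx'⟩
  obtain ⟨s, hs⟩ := hasSections_of_isWContractible hV.isWC L.obj m inferInstance hsurj
  have hbs : (ProEtS.bcP i).map s = L.a := by
    have h1 : (ProEtS.bcP i).map s ≫ (ProEtS.bcP i).map m = 𝟙 _ := by
      rw [← Functor.map_comp, hs, CategoryTheory.Functor.map_id]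
    have : IsIso (L.a ≫ (ProEtS.bcP i).map m) := by rw [hm]; infer_instance
    have : IsIso ((ProEtS.bcP i).map m) := IsIso.of_isIso_comp_left L.a _
    rw [← cancel_mono ((ProEtS.bcP i).map m), h1, hm]
  have hms : m ≫ s = 𝟙 _ := L.rigid _ (by rw [Functor.map_comp, reassoc_of% hm, hbs])
  refine ⟨⟨V, 𝟙 W, inferInstanceAs (IsIso (𝟙 _)), ‹_›, fun V' b => ?_, fun e he => ?_⟩, rfl,
    (eqToHom_refl _ _).symm⟩
  · obtain ⟨m', hm'⟩ := L.exists_lift V' b
    exact ⟨s ≫ m', by rw [Category.id_comp, Functor.map_comp, hbs, hm']⟩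
  · rw [Category.id_comp] at he
    have h1 : m ≫ e ≫ s = 𝟙 _ := L.rigid _ (by
      rw [Functor.map_comp, Functor.map_comp, reassoc_of% hm, he, Category.id_comp, hbs])
    have h2 : s ≫ (m ≫ e ≫ s) ≫ m = e := by simp [reassoc_of% hs, hs]
    rw [← h2, h1, Category.id_comp, hs]

theorem bijective_unit_of_closedPoints (hr : IsRetrocompact (Set.range i.base)ᶜ) {V : X.ProEt}
    (hV : IsSmallWC (𝟙 X) V)
    (hcl : ∀ v : V.left, ∃ z : V.left, V.hom z ∈ Set.range i ∧ v ⤳ z) (F : ProEtS.AbP X) :
    Function.Bijective (((ProEtS.pullPushAdjP i).unit.app F).hom.app (op V)) := by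
  obtain ⟨hW, L, h, ha⟩ := nonempty_henselLift_self i hr hV hcl
  obtain ⟨obj, a, x1, x2, x3, x4⟩ := L
  dsimp only at h ha
  subst h
  let L : HenselLift i ((ProEtS.bcP i).obj obj) := ⟨obj, a, x1, x2, x3, x4⟩
  rw [eqToHom_refl] at ha
  have h1 := bijective_liftEval i hW L F
  have h2 : ∀ s, (liftEval i L).app F s =
      ((ProEtS.pullPushAdjP i).unit.app F).hom.app (op L.obj) s := fun s => by
    change ((ProEtS.pullP i).obj F).obj.map a.op _ = _
    rw [ha, op_id, Functor.map_id_apply]
    rfl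
  rwa [funext h2] at h1

omit [IsClosedImmersion i] in
theorem subsingleton_push_of_disjoint {V : X.ProEt}
    (hV : Disjoint (Set.range V.hom) (Set.range i)) (G : ProEtS.AbP Z) :
    Subsingleton (((ProEtS.pushP i).obj G).obj.obj (op V)) := by
  have : IsEmpty ((ProEtS.bcP i).obj V).left := ⟨fun y => by
    have hd := Set.disjoint_left.1 hV
    exact hd (a := V.hom (bcFst i V y)) ⟨_, rfl⟩
      ⟨((ProEtS.bcP i).obj V).hom y,
        (congrArg (fun m => m y) (pullback.condition (f := V.hom) (g := i))).symm⟩⟩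
  have h := ((isSheaf_iff_isSheaf_of_type _ _).1
    ((sheafCompose (Scheme.ProEt.topology Z) (forget AddCommGrpCat.{u + 1})).obj G).property _
      (Scheme.ProEt.bot_mem_topology ((ProEtS.bcP i).obj V))).isSeparatedFor
  exact ⟨fun x y => h.ext fun Y f hf => False.elim hf⟩

omit [IsClosedImmersion i] [ProEtS.PCont i] in
variable {i} in
theorem bijective_counit_of_subset (j : U ⟶ X) [IsOpenImmersion j] [ProEtS.JPCont j] {V : X.ProEt}
    (hV : Set.range V.hom ⊆ Set.range j) (F : ProEtS.AbP X) :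
    Function.Bijective (((ProEtS.extZeroPAdj j).counit.app F).hom.app (op V)) := by
  let γ : V.left ⟶ U := IsOpenImmersion.lift j V.hom hV
  have : WeaklyEtale γ := by
    have : WeaklyEtale (γ ≫ j) := by rw [IsOpenImmersion.lift_fac]; exact V.prop
    exact WeaklyEtale.of_comp γ j
  let Vu : U.ProEt := Scheme.ProEt.mk γ
  let e₁ : (ProEtS.compP j).obj Vu ⟶ V := MorphismProperty.Over.homMk (𝟙 _)
    ((Category.id_comp _).trans (IsOpenImmersion.lift_fac j V.hom hV).symm)
  let e₂ : V ⟶ (ProEtS.compP j).obj Vu := MorphismProperty.Over.homMk (𝟙 _)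
    ((Category.id_comp _).trans (IsOpenImmersion.lift_fac j V.hom hV))
  have he : e₁ ≫ e₂ = 𝟙 _ := MorphismProperty.Over.Hom.ext (Category.id_comp _)
  have he' : e₂ ≫ e₁ = 𝟙 _ := MorphismProperty.Over.Hom.ext (Category.id_comp _)
  have := isIso_unit_extZeroP j ((ProEtS.restrP j).obj F)
  have h1 : IsIso ((ProEtS.restrP j).map ((ProEtS.extZeroPAdj j).counit.app F)) := by
    have h := (ProEtS.extZeroPAdj j).right_triangle_components F
    have : IsIso ((ProEtS.extZeroPAdj j).unit.app ((ProEtS.restrP j).obj F) ≫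
        (ProEtS.restrP j).map ((ProEtS.extZeroPAdj j).counit.app F)) := by rw [h]; exact IsIso.id _
    exact IsIso.of_isIso_comp_left ((ProEtS.extZeroPAdj j).unit.app ((ProEtS.restrP j).obj F)) _
  let φ := ((ProEtS.extZeroPAdj j).counit.app F).hom
  have h2 : Function.Bijective (φ.app (op ((ProEtS.compP j).obj Vu))) := by
    have : IsIso (((sheafToPresheaf _ _).map
      ((ProEtS.restrP j).map ((ProEtS.extZeroPAdj j).counit.app F))).app (op Vu)) := inferInstance
    exact (ConcreteCategory.isIso_iff_bijective _).1 this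
  have : IsIso e₁.op := ⟨e₂.op, by rw [← op_comp, he', op_id], by rw [← op_comp, he, op_id]⟩
  have h3 : IsIso (φ.app (op V)) := by
    have h4 := φ.naturality e₁.op
    have : IsIso (φ.app (op ((ProEtS.compP j).obj Vu))) := (ConcreteCategory.isIso_iff_bijective _).2 h2
    have : IsIso (φ.app (op V) ≫ F.obj.map e₁.op) := by
      rw [show φ.app (op V) ≫ F.obj.map e₁.op = _ from h4.symm]
      infer_instance
    exact IsIso.of_isIso_comp_right _ (F.obj.map e₁.op)
  exact (ConcreteCategory.isIso_iff_bijective _).1 h3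

omit [IsClosedImmersion i] [ProEtS.PCont i] in
variable {i} in
theorem eq_zero_of_smallWC {A B : ProEtS.AbP X} (φ : A ⟶ B)
    (h : ∀ V : X.ProEt, IsSmallWC (𝟙 X) V → ∀ x, φ.hom.app (op V) x = 0) : φ = 0 := by
  ext T x
  obtain ⟨ι, V, g, hcov, hV⟩ := exists_smallWC_family (𝟙 X) T.unop
  refine ((isSheaf_iff_isSheaf_of_type _ _).1
    ((sheafCompose (Scheme.ProEt.topology X) (forget AddCommGrpCat.{u + 1})).obj B).property _
      hcov).isSeparatedFor.ext ?_
  rintro Y q ⟨Y', a, b, ⟨k⟩, rfl⟩
  change B.obj.map (a ≫ g k).op (φ.hom.app T x) = B.obj.map (a ≫ g k).op (0 : B.obj.obj T)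
  rw [map_zero, op_comp, Functor.map_comp_apply, ← NatTrans.naturality_apply φ.hom, h _ (hV k),
    map_zero]

theorem shortExact_extZero_push (j : U ⟶ X) [IsOpenImmersion j] [QuasiCompact j]
    (hc : Set.range j.base = (Set.range i.base)ᶜ) [ProEtS.JPCont j] (F : ProEtS.AbP X) :
    ∃ h : (ProEtS.extZeroPAdj j).counit.app F ≫ (ProEtS.pullPushAdjP i).unit.app F = 0,
      (ShortComplex.mk _ _ h).ShortExact := by
  let A := (ProEtS.extZeroP j).obj ((ProEtS.restrP j).obj F)
  let C := (ProEtS.pushP i).obj ((ProEtS.pullP i).obj F)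
  let f : A ⟶ F := (ProEtS.extZeroPAdj j).counit.app F
  let g : F ⟶ C := (ProEtS.pullPushAdjP i).unit.app F
  have hr : IsRetrocompact (Set.range i.base)ᶜ := by
    rw [← hc]
    intro O hOc hOo
    have h := ((quasiCompact_iff j).1 inferInstance O hOo hOc).image j.continuous
    rw [Set.image_preimage_eq_inter_range] at h
    rwa [Set.inter_comm] at h
  -- the two kinds of pieces
  have hsplit : ∀ V : X.ProEt, IsSmallWC (𝟙 X) V → ∃ O : Fin 2 → V.left.Opens,
      Pairwise (fun k l => Disjoint (O k : Set V.left) (O l)) ∧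
        (⋃ k, (O k : Set V.left)) = Set.univ ∧
        ∀ k, (Subsingleton (A.obj.obj (op (Scheme.ProEt.mk ((O k).ι ≫ V.hom)))) ∧
            Function.Bijective (g.hom.app (op (Scheme.ProEt.mk ((O k).ι ≫ V.hom))))) ∨
          (Function.Bijective (f.hom.app (op (Scheme.ProEt.mk ((O k).ι ≫ V.hom)))) ∧
            Subsingleton (C.obj.obj (op (Scheme.ProEt.mk ((O k).ι ≫ V.hom))))) := by
    intro V hV
    have := hV.isAffine
    have : CompactSpace V.left := inferInstance
    let G : Set V.left := V.hom ⁻¹' Set.range j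
    have hG : IsOpen G := j.isOpenEmbedding.isOpen_range.preimage V.hom.continuous
    have hGc : IsCompact G := by
      have : QuasiCompact (pullback.fst V.hom j) := MorphismProperty.pullback_fst V.hom j inferInstance
      have : CompactSpace ↥(pullback V.hom j) :=
        @QuasiCompact.compactSpace_of_compactSpace _ _ (pullback.fst V.hom j) ‹_› ‹CompactSpace V.left›
      have h := isCompact_range (pullback.fst V.hom j).continuous
      rwa [Scheme.Pullback.range_fst V.hom j] at h
    obtain ⟨O, hO, hdisj, hcov, hO1, hO0⟩ := exists_split hV.isWC G hG hGc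
    refine ⟨O, hdisj, hcov, fun k => ?_⟩
    have hsm := isSmallWC_piece hV (O k) (hO k)
    fin_cases k
    · refine Or.inl ?_
      have hcl : ∀ v : (Scheme.ProEt.mk ((O 0).ι ≫ V.hom)).left, ∃ z,
          (Scheme.ProEt.mk ((O 0).ι ≫ V.hom)).hom z ∈ Set.range i ∧ v ⤳ z := by
        intro v
        obtain ⟨z, hz, hzG, hvz⟩ := hO0 ((O 0).ι v) v.2
        refine ⟨⟨z, hz⟩, ?_, (O 0).ι.isOpenEmbedding.isInducing.specializes_iff.1 hvz⟩
        have h : V.hom z ∉ Set.range j := hzG
        rw [hc, Set.mem_compl_iff, not_not] at h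
        exact h
      have : IsAffine (Scheme.ProEt.mk ((O 0).ι ≫ V.hom)).left := hsm.isAffine
      refine ⟨subsingleton_extZeroP_sections j i ?_ _ hcl _,
        bijective_unit_of_closedPoints i hr hsm hcl F⟩
      rw [hc]
      exact disjoint_compl_left
    · refine Or.inr ⟨bijective_counit_of_subset j ?_ F, subsingleton_push_of_disjoint i ?_ _⟩
      · rintro _ ⟨v, rfl⟩
        exact hO1 v.2
      · refine Set.disjoint_left.2 ?_
        rintro _ ⟨v, rfl⟩ h
        have h2 : V.hom ((O 1).ι v) ∈ Set.range j := hO1 v.2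
        rw [hc] at h2
        exact h2 h
  have hFs := fun (B : ProEtS.AbP X) {V : X.ProEt} {O : Fin 2 → V.left.Opens}
      (hdisj : Pairwise fun k l => Disjoint (O k : Set V.left) (O l))
      (hcov : (⋃ k, (O k : Set V.left)) = Set.univ) => bijective_of_decomposition
        ((isSheaf_iff_isSheaf_of_type _ _).1
          ((sheafCompose (Scheme.ProEt.topology X) (forget AddCommGrpCat.{u + 1})).obj B).property)
        O hdisj hcov
  have hw : f ≫ g = 0 := eq_zero_of_smallWC _ fun V hV x => by
    obtain ⟨O, hdisj, hcov, hk⟩ := hsplit V hV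
    refine (hFs C hdisj hcov).1 (funext fun k => ?_)
    change C.obj.map _ (g.hom.app _ (f.hom.app _ x)) = C.obj.map (openHom (O k)).op (0 : C.obj.obj (op V))
    rw [map_zero]
    rcases hk k with ⟨h, -⟩ | ⟨-, h⟩
    · rw [← NatTrans.naturality_apply g.hom, ← NatTrans.naturality_apply f.hom]
      rw [@Subsingleton.elim _ h (A.obj.map (openHom (O k)).op x) 0, map_zero, map_zero]
    · exact @Subsingleton.elim _ h _ _
  refine ⟨hw, ?_⟩
  -- sectionwise exactness
  have hinj : ∀ V, IsSmallWC (𝟙 X) V → Function.Injective (f.hom.app (op V)) := by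
    intro V hV x y hxy
    obtain ⟨O, hdisj, hcov, hk⟩ := hsplit V hV
    refine (hFs A hdisj hcov).1 (funext fun k => ?_)
    rcases hk k with ⟨h, -⟩ | ⟨h, -⟩
    · exact @Subsingleton.elim _ h _ _
    · refine h.1 ?_
      change f.hom.app _ (A.obj.map _ x) = f.hom.app _ (A.obj.map _ y)
      rw [NatTrans.naturality_apply f.hom, NatTrans.naturality_apply f.hom, hxy]
  have hlift : ∀ V, IsSmallWC (𝟙 X) V → ∀ y, g.hom.app (op V) y = 0 → ∃ x, f.hom.app (op V) x = y := by
    intro V hV y hy
    obtain ⟨O, hdisj, hcov, hk⟩ := hsplit V hV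
    have hloc : ∀ k, ∃ x, f.hom.app _ x = F.obj.map (openHom (O k)).op y := fun k => by
      rcases hk k with ⟨-, h⟩ | ⟨h, -⟩
      · refine ⟨0, (map_zero _).trans (h.1 ?_).symm⟩
        change g.hom.app _ _ = g.hom.app _ 0
        rw [map_zero, NatTrans.naturality_apply g.hom, hy, map_zero]
      · exact h.2 _
    choose x hx using hloc
    obtain ⟨a, ha⟩ := (hFs A hdisj hcov).2 x
    refine ⟨a, (hFs F hdisj hcov).1 (funext fun k => ?_)⟩
    change F.obj.map (openHom (O k)).op (f.hom.app (op V) a) = F.obj.map (openHom (O k)).op y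
    rw [← NatTrans.naturality_apply f.hom,
      show A.obj.map (openHom (O k)).op a = x k from congrFun ha k, hx]
  have hepi : ∀ V, IsSmallWC (𝟙 X) V → Function.Surjective (g.hom.app (op V)) := by
    intro V hV s
    obtain ⟨O, hdisj, hcov, hk⟩ := hsplit V hV
    have hloc : ∀ k, ∃ x, g.hom.app _ x = C.obj.map (openHom (O k)).op s := fun k => by
      rcases hk k with ⟨-, h⟩ | ⟨-, h⟩
      · exact h.2 _
      · exact ⟨0, @Subsingleton.elim _ h _ _⟩
    choose x hx using hloc
    obtain ⟨a, ha⟩ := (hFs F hdisj hcov).2 x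
    refine ⟨a, (hFs C hdisj hcov).1 (funext fun k => ?_)⟩
    change C.obj.map (openHom (O k)).op (g.hom.app (op V) a) = C.obj.map (openHom (O k)).op s
    rw [← NatTrans.naturality_apply g.hom,
      show F.obj.map (openHom (O k)).op a = x k from congrFun ha k, hx]
  have : IsIso (kernel.lift g f hw) := isIso_of_bijective_smallWC (𝟙 X) _ fun V hV => by
    have hι : Function.Injective ((kernel.ι g).hom.app (op V)) := by
      have : Mono (((sheafToPresheaf _ _).map (kernel.ι g)).app (op V)) := inferInstance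
      exact (AddCommGrpCat.mono_iff_injective _).1 this
    have hfac : ∀ x, (kernel.ι g).hom.app (op V) ((kernel.lift g f hw).hom.app (op V) x) =
        f.hom.app (op V) x := fun x => congrArg (fun m => m.hom.app (op V) x) (kernel.lift_ι g f hw)
    refine ⟨fun x y hxy => hinj V hV ?_, fun z => ?_⟩
    · rw [← hfac, ← hfac, hxy]
    · obtain ⟨x, hx⟩ := hlift V hV ((kernel.ι g).hom.app (op V) z)
        (congrArg (fun m => m.hom.app (op V) z) (kernel.condition g))
      exact ⟨x, hι ((hfac x).trans hx)⟩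
  have : Mono f := by
    rw [← kernel.lift_ι g f hw]
    infer_instance
  have : Epi g := by
    refine (Sheaf.isLocallySurjective_iff_epi' AddCommGrpCat.{u + 1} g).1 ⟨fun {T} s => ?_⟩
    obtain ⟨ι, V, a, hcov, hV⟩ := exists_smallWC_family (𝟙 X) T
    refine (Scheme.ProEt.topology X).superset_covering ?_ hcov
    rw [Sieve.generate_le_iff, Presieve.ofArrows_le_iff]
    intro k
    obtain ⟨t, ht⟩ := hepi _ (hV k) (C.obj.map (a k).op s)
    exact ⟨t, ht⟩
  exact
    { exact := ShortComplex.exact_of_f_is_kernel _ (IsLimit.ofIsoLimit (kernelIsKernel g)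
        (Fork.ext (asIso (kernel.lift g f hw)).symm (by
          change inv (kernel.lift g f hw) ≫ f = kernel.ι g
          rw [IsIso.inv_comp_eq]
          exact (kernel.lift_ι g f hw).symm))) }

end Groth.EtaleDeep.ProEt
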