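import Groth.Agent.EtaleDeep.ProEtSite
import Groth.Agent.FlatMor2.WeaklyEtaleStalk
import Groth.Prelude.Def_PBC

/-!
# The small pro-etale site: coverings of affine objects, w-contractible objects
-/

set_option autoImplicit false
set_option backward.isDefEq.respectTransparency.types false
set_option linter.style.haveILetI false

universe w u

open CategoryTheory CategoryTheory.Limits AlgebraicGeometry Opposite

namespace Groth.EtaleDeep.ProEt

variable {X : Scheme.{u}}

lemma weaklyEtale_left {U V : X.ProEt} (f : V ⟶ U) : WeaklyEtale f.left := by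
  have : WeaklyEtale (f.left ≫ U.hom) := by rw [MorphismProperty.Over.w f]; exact V.prop
  exact WeaklyEtale.of_comp f.left U.hom

set_option backward.isDefEq.respectTransparency.types false in
lemma mem_topology_of_mem_precoverage {ι : Type*} {U : X.ProEt} (V : ι → X.ProEt)
    (g : ∀ i, V i ⟶ U)
    (h : Presieve.ofArrows (fun i => (V i).left) (fun i => (g i).left) ∈
      Scheme.proetalePrecoverage U.left) :
    Sieve.generate (Presieve.ofArrows V g) ∈ Scheme.ProEt.topology X U := by
  apply Precoverage.generate_mem_toGrothendieck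
  rw [Scheme.ProEt.precoverage, Precoverage.mem_comap_iff, Presieve.map_ofArrows]
  exact h

set_option backward.isDefEq.respectTransparency.types false in
/-- A single surjective quasi-compact morphism covers. -/
lemma singleton_mem_topology {U V : X.ProEt} (g : V ⟶ U) [Surjective g.left]
    [QuasiCompact g.left] :
    Sieve.generate (Presieve.singleton g) ∈ Scheme.ProEt.topology X U := by
  apply Precoverage.generate_mem_toGrothendieck
  rw [Scheme.ProEt.precoverage, Precoverage.mem_comap_iff, Presieve.map_singleton]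
  have : Surjective ((Scheme.ProEt.forget X ⋙ Over.forget X).map g) := ‹Surjective g.left›
  have : QuasiCompact ((Scheme.ProEt.forget X ⋙ Over.forget X).map g) := ‹QuasiCompact g.left›
  exact Scheme.Hom.singleton_mem_propQCPrecoverage (P := @WeaklyEtale) (weaklyEtale_left g)

/-- A jointly surjective family of open immersions covers. -/
lemma openImmersions_mem_topology {ι : Type w} {U : X.ProEt} (V : ι → X.ProEt)
    (g : ∀ i, V i ⟶ U) [∀ i, IsOpenImmersion (g i).left]
    (hcov : ∀ x : U.left, ∃ i, x ∈ Set.range (g i).left) :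
    Sieve.generate (Presieve.ofArrows V g) ∈ Scheme.ProEt.topology X U := by
  refine mem_topology_of_mem_precoverage V g
    (Scheme.zariskiPrecoverage_le_propQCPrecoverage (P := @WeaklyEtale) _ ?_)
  rw [Scheme.zariskiPrecoverage, Scheme.ofArrows_mem_precoverage_iff]
  exact ⟨hcov, fun i => inferInstance⟩

set_option backward.isDefEq.respectTransparency.types false in
/-- A covering sieve of a quasi-compact object contains a finite jointly surjective family of affine
objects. -/
theorem exists_affine_refinement {U : X.ProEt} [CompactSpace U.left] {R : Sieve U}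
    (hR : R ∈ Scheme.ProEt.topology X U) :
    ∃ (n : ℕ) (V : Fin n → X.ProEt) (g : ∀ i, V i ⟶ U), (∀ i, IsAffine (V i).left) ∧
      (∀ x : U.left, ∃ i, x ∈ Set.range (g i).left) ∧ ∀ i, R.arrows (g i) := by
  rw [ProEtSite.mem_topology_iff, GrothendieckTopology.mem_over_iff,
    Scheme.proetaleTopology, Precoverage.mem_toGrothendieck_iff_of_isStableUnderComposition] at hR
  obtain ⟨P, hP, hle⟩ := hR
  rw [Scheme.proetalePrecoverage, Scheme.mem_propQCPrecoverage_iff_exists_quasiCompactCover] at hP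
  obtain ⟨𝒰, h𝒰, rfl⟩ := hP
  obtain ⟨n, f, W, hW, heq⟩ := QuasiCompactCover.exists_isAffineOpen_of_isCompact 𝒰.1
    (U := (⊤ : U.left.Opens)) (isCompact_univ (X := ↥U.left))
  have hwe : ∀ i, WeaklyEtale ((W i).ι ≫ 𝒰.f (f i)) := fun i => by
    have : WeaklyEtale (𝒰.f (f i)) := 𝒰.map_prop _
    infer_instance
  have : ∀ i, WeaklyEtale (((W i).ι ≫ 𝒰.f (f i)) ≫ U.hom) := fun i => by
    have := hwe i
    exact MorphismProperty.comp_mem _ _ _ (hwe i) U.prop
  let g : ∀ i, Scheme.ProEt.mk (S := X) (((W i).ι ≫ 𝒰.f (f i)) ≫ U.hom) ⟶ U :=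
    fun i => MorphismProperty.Over.homMk ((W i).ι ≫ 𝒰.f (f i))
  refine ⟨n, _, g, fun i => hW i, fun x => ?_, fun i => ?_⟩
  · have hx : x ∈ ⋃ i, 𝒰.f (f i) '' (W i : Set (𝒰.X (f i))) := by rw [heq]; trivial
    obtain ⟨i, hi⟩ := Set.mem_iUnion.1 hx
    obtain ⟨y, hy, rfl⟩ := hi
    exact ⟨i, ⟨y, hy⟩, rfl⟩
  · have h1 : 𝒰.presieve₀ (𝒰.f (f i)) := ⟨f i⟩
    have h2 := Sieve.downward_closed _ (hle _ _ h1) (W i).ι
    rw [← Sieve.functorPullback_functorPushforward_eq (Scheme.ProEt.forget X) (S := R)]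
    exact (Sieve.overEquiv_iff _ _).1 h2

set_option backward.isDefEq.respectTransparency.types false in
/-- Sections of a sheaf over a disjoint union are the product of the sections over the pieces. -/
theorem bijective_of_disjoint_cover {P : X.ProEtᵒᵖ ⥤ Type w}
    (hP : Presieve.IsSheaf (Scheme.ProEt.topology X) P) {ι : Type*} {U : X.ProEt}
    (V : ι → X.ProEt) (g : ∀ i, V i ⟶ U) [∀ i, Mono (g i)]
    (hcov : Sieve.generate (Presieve.ofArrows V g) ∈ Scheme.ProEt.topology X U)
    (hdisj : ∀ i j, i ≠ j → Disjoint (Set.range (g i).left) (Set.range (g j).left)) :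
    Function.Bijective fun (x : P.obj (op U)) (i : ι) => P.map (g i).op x := by
  have h := (Presieve.isSheafFor_iff_generate _).2 (hP _ hcov)
  rw [Presieve.isSheafFor_arrows_iff] at h
  rw [Function.bijective_iff_existsUnique]
  intro x
  obtain ⟨t, ht, huniq⟩ := h x fun i j Z gi gj hij => by
    by_cases e : i = j
    · subst e
      rw [(cancel_mono (g i)).1 hij]
    · have : IsEmpty Z.left := ⟨fun z => (hdisj i j e).le_bot
        ⟨⟨gi.left z, rfl⟩, ⟨gj.left z, by
          have h1 := congrArg (fun q : Z ⟶ U => q.left z) hij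
          exact h1.symm⟩⟩⟩
      exact (hP _ (Scheme.ProEt.bot_mem_topology Z)).isSeparatedFor.ext fun Y f hf => False.elim hf
  exact ⟨t, funext ht, fun s hs => huniq s fun i => congrFun hs i⟩

/-- Every surjection from an affine object has a section. -/
def HasSections (U : X.ProEt) : Prop :=
  ∀ (V : X.ProEt) (g : V ⟶ U), IsAffine V.left → Surjective g.left → ∃ s : U ⟶ V, s ≫ g = 𝟙 U

/-- Every covering sieve contains a finite decomposition into clopen pieces. -/
def HasClopenRefinements (U : X.ProEt) : Prop :=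
  ∀ R ∈ Scheme.ProEt.topology X U, ∃ (n : ℕ) (W : Fin n → U.left.Opens),
    (∀ k, IsClopen ((W k : Set ↥U.left))) ∧
    Pairwise (fun k l => Disjoint (W k : Set ↥U.left) (W l)) ∧
      (⋃ k, (W k : Set ↥U.left)) = Set.univ ∧
    ∀ k, R.arrows
      (MorphismProperty.Over.homMk (W k).ι : Scheme.ProEt.mk ((W k).ι ≫ U.hom) ⟶ U)

/-- The morphism corresponding to an open of `U`. -/
noncomputable abbrev openHom {U : X.ProEt} (W : U.left.Opens) :
    Scheme.ProEt.mk (W.ι ≫ U.hom) ⟶ U :=
  MorphismProperty.Over.homMk W.ι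

lemma mono_of_mono_left {U V : X.ProEt} (f : V ⟶ U) [Mono f.left] : Mono f :=
  ⟨fun a b hab => by
    apply MorphismProperty.Over.Hom.ext
    rw [← cancel_mono f.left]
    exact congrArg (fun q => q.left) hab⟩

/-- A finite (or infinite) disjoint decomposition into opens. -/
theorem bijective_of_decomposition {P : X.ProEtᵒᵖ ⥤ Type w}
    (hP : Presieve.IsSheaf (Scheme.ProEt.topology X) P) {ι : Type*} {U : X.ProEt}
    (W : ι → U.left.Opens)
    (hdisj : Pairwise fun k l => Disjoint (W k : Set ↥U.left) (W l))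
    (hcov : (⋃ k, (W k : Set ↥U.left)) = Set.univ) :
    Function.Bijective fun (x : P.obj (op U)) (k : ι) => P.map (openHom (W k)).op x := by
  have : ∀ k, IsOpenImmersion (openHom (W k)).left := fun k =>
    inferInstanceAs (IsOpenImmersion (W k).ι)
  have : ∀ k, Mono (openHom (W k)) := fun k =>
    have : Mono (openHom (W k)).left := inferInstanceAs (Mono (W k).ι)
    mono_of_mono_left _
  have hr : ∀ k, Set.range (openHom (W k)).left = (W k : Set ↥U.left) := fun k => (W k).range_ι
  refine bijective_of_disjoint_cover hP _ _ (openImmersions_mem_topology _ _ fun x => ?_)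
    fun i j e => ?_
  · have hx : x ∈ ⋃ k, (W k : Set ↥U.left) := hcov ▸ trivial
    obtain ⟨k, hk⟩ := Set.mem_iUnion.1 hx
    exact ⟨k, (hr k).symm ▸ hk⟩
  · rw [hr, hr]
    exact hdisj e

theorem hasSections_of_refinements {U : X.ProEt} [IsAffine U.left] (h : HasClopenRefinements U) :
    HasSections U := by
  intro V g hV hg
  obtain ⟨n, W, -, hdisj, hcov, hmem⟩ := h _ (singleton_mem_topology g)
  have hl : ∀ k, ∃ l : Scheme.ProEt.mk ((W k).ι ≫ U.hom) ⟶ V, l ≫ g = openHom (W k) := fun k => by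
    obtain ⟨Y, a, b, ⟨⟩, hab⟩ := hmem k
    exact ⟨a, hab⟩
  choose l hl using hl
  obtain ⟨s, hs⟩ := (bijective_of_decomposition
    (GrothendieckTopology.Subcanonical.isSheaf_of_isRepresentable (yoneda.obj V)) W hdisj hcov).2 l
  refine ⟨s, (bijective_of_decomposition
    (GrothendieckTopology.Subcanonical.isSheaf_of_isRepresentable (yoneda.obj U)) W hdisj hcov).1 ?_⟩
  funext k
  have h1 : openHom (W k) ≫ s = l k := congrFun hs k
  change openHom (W k) ≫ (s ≫ g) = openHom (W k) ≫ 𝟙 U
  rw [reassoc_of% h1, hl, Category.comp_id]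

theorem refinements_of_hasSections {U : X.ProEt} [IsAffine U.left] (h : HasSections U) :
    HasClopenRefinements U := by
  intro R hR
  obtain ⟨n, V, g, hV, hcov, hmem⟩ := exists_affine_refinement hR
  have : WeaklyEtale (Sigma.desc fun i => (V i).hom) :=
    IsZariskiLocalAtSource.sigmaDesc fun i => (V i).prop
  let P : X.ProEt := Scheme.ProEt.mk (Sigma.desc fun i => (V i).hom)
  let p : P ⟶ U := MorphismProperty.Over.homMk (Sigma.desc fun i => (g i).left) (by
    refine Sigma.hom_ext _ _ fun i => ?_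
    refine ((Sigma.ι_desc_assoc (fun i => (g i).left) i U.hom).trans ?_)
    exact (MorphismProperty.Over.w (g i)).trans (Sigma.ι_desc (fun i => (V i).hom) i).symm)
  have hP : IsAffine P.left := inferInstanceAs (IsAffine (∐ fun i => (V i).left))
  have hp : Surjective p.left := ⟨fun x => by
    obtain ⟨i, y, rfl⟩ := hcov x
    refine ⟨Sigma.ι (fun i => (V i).left) i y, ?_⟩
    change (Sigma.ι (fun i => (V i).left) i ≫ Sigma.desc fun i => (g i).left) y = _
    rw [Sigma.ι_desc]⟩
  obtain ⟨s, hs⟩ := h P p hP hp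
  let O : Fin n → P.left.Opens := fun i => (Sigma.ι (fun i => (V i).left) i).opensRange
  let W : Fin n → U.left.Opens := fun i => s.left ⁻¹ᵁ O i
  have hd : Pairwise fun k l => Disjoint (W k : Set ↥U.left) (W l) := fun k l e => by
    refine Set.disjoint_left.2 fun x hk hl => ?_
    obtain ⟨a, ha⟩ := hk
    obtain ⟨b, hb⟩ := hl
    have := (sigmaι_eq_iff (fun i => (V i).left) k l a b).1 (ha.trans hb.symm)
    exact e (congrArg Sigma.fst this)
  have hu : (⋃ k, (W k : Set ↥U.left)) = Set.univ := by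
    refine Set.eq_univ_of_forall fun x => Set.mem_iUnion.2 ?_
    obtain ⟨y, hy⟩ := (sigmaOpenCover (fun i => (V i).left)).covers (s.left x)
    exact ⟨_, y, hy⟩
  refine ⟨n, W, fun k => ⟨⟨?_⟩, (W k).isOpen⟩, hd, hu, fun k => ?_⟩
  · have : (W k : Set ↥U.left)ᶜ = ⋃ l ∈ {l | l ≠ k}, (W l : Set ↥U.left) := by
      ext x
      simp only [Set.mem_compl_iff, Set.mem_iUnion, Set.mem_ofPred_eq, exists_prop]
      refine ⟨fun hx => ?_, ?_⟩
      · have hx' : x ∈ ⋃ l, (W l : Set ↥U.left) := hu ▸ trivial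
        obtain ⟨l, hl⟩ := Set.mem_iUnion.1 hx'
        exact ⟨l, fun e => hx (e ▸ hl), hl⟩
      · rintro ⟨l, e, hl⟩ hk
        exact Set.disjoint_left.1 (hd e) hl hk
    rw [this]
    exact isOpen_biUnion fun l _ => (W l).isOpen
  · have hsub : Set.range ((W k).ι ≫ s.left) ⊆ Set.range (Sigma.ι (fun i => (V i).left) k) := by
      rintro _ ⟨x, rfl⟩
      exact x.2
    let l : (W k).toScheme ⟶ (V k).left :=
      IsOpenImmersion.lift (Sigma.ι (fun i => (V i).left) k) ((W k).ι ≫ s.left) hsub
    have hl : l ≫ (g k).left = (W k).ι := by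
      have h1 : l ≫ (Sigma.ι (fun i => (V i).left) k ≫ p.left) =
          (W k).ι ≫ (s.left ≫ p.left) := by
        rw [IsOpenImmersion.lift_fac_assoc, Category.assoc]
        rfl
      have h2 : s.left ≫ p.left = 𝟙 U.left := congrArg (fun q => q.left) hs
      rw [h2, Category.comp_id] at h1
      refine Eq.trans ?_ h1
      exact congrArg (l ≫ ·) (Sigma.ι_desc (fun i => (g i).left) k).symm
    let a : Scheme.ProEt.mk ((W k).ι ≫ U.hom) ⟶ V k := MorphismProperty.Over.homMk l (by
      rw [← MorphismProperty.Over.w (g k)]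
      exact (Category.assoc _ _ _).symm.trans (congrArg (· ≫ U.hom) hl))
    have he : openHom (W k) = a ≫ g k := MorphismProperty.Over.Hom.ext hl.symm
    change R.arrows (openHom (W k))
    rw [he]
    exact R.downward_closed (hmem k) a

theorem hasSections_of_isWContractible {U : X.ProEt} [IsAffine U.left]
    (h : EtPBC.IsWContractible ↥(Γ(U.left, ⊤))) : HasSections U := by
  intro V g hV hg
  have := weaklyEtale_left g
  let φ := g.left.appTop
  letI : Algebra Γ(U.left, ⊤) Γ(V.left, ⊤) := φ.hom.toAlgebra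
  have hnat : Spec.map φ = V.left.isoSpec.inv ≫ g.left ≫ U.left.isoSpec.hom := by
    rw [← Scheme.isoSpec_inv_naturality_assoc, Iso.inv_hom_id, Category.comp_id]
  have hwe : WeaklyEtale (Spec.map φ) := by
    rw [hnat]; infer_instance
  have hsj : Surjective (Spec.map φ) := by
    rw [hnat]; infer_instance
  have hW : Algebra.WeaklyEtale Γ(U.left, ⊤) Γ(V.left, ⊤) :=
    FlatMor2.isWeaklyEtaleHom_iff.1
      ((FlatMor2.weaklyEtale_SpecMap_iff φ).1 hwe)
  have hff : Module.FaithfullyFlat Γ(U.left, ⊤) Γ(V.left, ⊤) :=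
    RingHom.faithfullyFlat_algebraMap_iff.1 <|
      (flat_and_surjective_SpecMap_iff φ).1 ⟨inferInstance, hsj⟩
  obtain ⟨r⟩ := h _ hff hW
  let ψ : Γ(V.left, ⊤) ⟶ Γ(U.left, ⊤) := CommRingCat.ofHom r.toRingHom
  have hψ : φ ≫ ψ = 𝟙 _ := CommRingCat.hom_ext (RingHom.ext fun a => r.commutes a)
  let s : U.left ⟶ V.left := U.left.isoSpec.hom ≫ Spec.map ψ ≫ V.left.isoSpec.inv
  have hs : s ≫ g.left = 𝟙 _ := by
    simp only [s, Category.assoc]
    rw [← Scheme.isoSpec_inv_naturality, ← Spec.map_comp_assoc, hψ, Spec.map_id, Category.id_comp,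
      Iso.hom_inv_id]
  refine ⟨MorphismProperty.Over.homMk s (by rw [← MorphismProperty.Over.w g, reassoc_of% hs]), ?_⟩
  exact MorphismProperty.Over.Hom.ext hs

theorem isWContractible_of_hasSections {U : X.ProEt} [IsAffine U.left] (h : HasSections U) :
    EtPBC.IsWContractible ↥(Γ(U.left, ⊤)) := by
  intro B _ _ hff hW
  let φ : Γ(U.left, ⊤) ⟶ CommRingCat.of B := CommRingCat.ofHom (algebraMap Γ(U.left, ⊤) B)
  have hwe : WeaklyEtale (Spec.map φ) :=
    (FlatMor2.weaklyEtale_SpecMap_iff φ).2
      (FlatMor2.isWeaklyEtaleHom_iff.2 hW)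
  have hsj : Surjective (Spec.map φ) :=
    ((flat_and_surjective_SpecMap_iff φ).2 (RingHom.faithfullyFlat_algebraMap_iff.2 hff)).2
  let V : X.ProEt := Scheme.ProEt.mk ((Spec.map φ ≫ U.left.isoSpec.inv) ≫ U.hom)
  let g : V ⟶ U := MorphismProperty.Over.homMk (Spec.map φ ≫ U.left.isoSpec.inv)
  obtain ⟨s, hs⟩ := h V g (inferInstanceAs (IsAffine (Spec (CommRingCat.of B))))
    (inferInstanceAs (Surjective (Spec.map φ ≫ U.left.isoSpec.inv)))
  obtain ⟨ψ, hψ⟩ : ∃ ψ : CommRingCat.of B ⟶ Γ(U.left, ⊤),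
      Spec.map ψ = U.left.isoSpec.inv ≫ s.left :=
    ⟨Spec.preimage _, Spec.map_preimage _⟩
  have hφψ : φ ≫ ψ = 𝟙 _ := by
    apply Spec.map_injective
    rw [Spec.map_comp, hψ, Spec.map_id]
    refine (cancel_mono U.left.isoSpec.inv).1 ?_
    have h2 : s.left ≫ (Spec.map φ ≫ U.left.isoSpec.inv) = 𝟙 U.left :=
      congrArg (fun q => q.left) hs
    refine (Category.assoc _ _ _).trans ((Category.assoc _ _ _).trans ?_)
    exact ((congrArg (U.left.isoSpec.inv ≫ ·) h2).trans (Category.comp_id _)).trans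
      (Category.id_comp _).symm
  exact ⟨{ ψ.hom with commutes' := fun a => congrArg (fun q => q.hom a) hφψ }⟩

/-- An epimorphism of sheaves is surjective on objects with clopen refinements. -/
theorem isWC_of_refinements {U : X.ProEt} (h : HasClopenRefinements U) : ProEtS.IsWC U := by
  intro F G φ hφ s
  have : Sheaf.IsLocallySurjective φ := (Sheaf.isLocallySurjective_iff_epi' (Type (u + 1)) φ).2 hφ
  obtain ⟨n, W, -, hdisj, hcov, hmem⟩ :=
    h _ (Presheaf.imageSieve_mem (Scheme.ProEt.topology X) φ.hom s)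
  choose t ht using hmem
  have hF := (isSheaf_iff_isSheaf_of_type _ _).1 F.property
  have hG := (isSheaf_iff_isSheaf_of_type _ _).1 G.property
  obtain ⟨a, ha⟩ := (bijective_of_decomposition hF W hdisj hcov).2 t
  refine ⟨a, (bijective_of_decomposition hG W hdisj hcov).1 (funext fun k => ?_)⟩
  change G.obj.map _ (φ.hom.app (op U) a) = G.obj.map _ s
  rw [← NatTrans.naturality_apply φ.hom, show F.obj.map (openHom (W k)).op a = t k from congrFun ha k]
  exact ht k

set_option backward.isDefEq.respectTransparency.types false in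
theorem hasSections_of_isWC {U : X.ProEt} [IsAffine U.left] (h : ProEtS.IsWC U) : HasSections U := by
  intro V g hV hg
  let J := Scheme.ProEt.topology X
  let φ := (J.uliftYoneda.{u + 1}).map g
  have : Sheaf.IsLocallySurjective φ := ⟨fun {Z} x => by
    refine J.superset_covering ?_ (J.pullback_stable x.down (singleton_mem_topology g))
    rintro Y q ⟨W, a, b, ⟨⟩, hab⟩
    exact ⟨⟨a⟩, ULift.ext _ _ hab⟩⟩
  obtain ⟨⟨s⟩, hs⟩ := h _ _ φ ((Sheaf.isLocallySurjective_iff_epi' (Type (u + 1)) φ).1 this) ⟨𝟙 U⟩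
  exact ⟨s, congrArg ULift.down hs⟩

end Groth.EtaleDeep.ProEt
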