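import Mathlib

/-!
# Restriction from the big to the small pro-etale site preserves injectives
-/

set_option autoImplicit false
set_option backward.isDefEq.respectTransparency false
set_option maxHeartbeats 1000000
set_option synthInstance.maxHeartbeats 400000

universe u

open CategoryTheory CategoryTheory.Category CategoryTheory.Limits AlgebraicGeometry Opposite

namespace Groth.EtaleDeep.ProEt

section

variable {C D : Type (u + 1)} [Category.{u} C] [Category.{u} D] {JC : GrothendieckTopology C}
  {JD : GrothendieckTopology D} (a : C ⥤ D)

/-- Left Kan extension preserves monomorphisms when the comma categories are discrete up to final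
functors. -/
theorem preservesMono_lan_discrete
    (h : ∀ X : Dᵒᵖ, ∃ (κ : Type u) (K : Discrete κ ⥤ CostructuredArrow a.op X), K.Final) :
    (a.op.lan : (Cᵒᵖ ⥤ AddCommGrpCat.{u + 1}) ⥤ _).PreservesMonomorphisms := by
  constructor
  intro P Q f hf
  have : ∀ X, Mono ((a.op.lan.map f).app X) := by
    intro X
    obtain ⟨κ, K, hK⟩ := h X
    let iP := Functor.leftKanExtensionObjIsoColimit a.op P X
    let iQ := Functor.leftKanExtensionObjIsoColimit a.op Q X
    let α := Functor.whiskerLeft (CostructuredArrow.proj a.op X) f
    let γ : colim.obj (K ⋙ CostructuredArrow.proj a.op X ⋙ P) ⟶ colim.obj (K ⋙ CostructuredArrow.proj a.op X ⋙ Q) :=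
      colim.map (Functor.whiskerLeft K α)
    have hγ : Mono γ := by
      have : Mono (Functor.whiskerLeft K α) := by
        have : ∀ i, Mono ((Functor.whiskerLeft K α).app i) := fun i =>
          inferInstanceAs (Mono (f.app _))
        exact NatTrans.mono_of_mono_app _
      have : AB5OfSize.{u, u} AddCommGrpCat.{u + 1} := AB5OfSize_shrink.{u, u, u + 1, u + 1} _
      have : AB4OfSize.{u} AddCommGrpCat.{u + 1} := AB4.of_AB5 _
      have := AB4OfSize.ofShape (C := AddCommGrpCat.{u + 1}) κ
      exact Functor.map_mono colim _
    have e : γ ≫ colimit.pre (CostructuredArrow.proj a.op X ⋙ Q) K ≫ iQ.inv =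
        colimit.pre (CostructuredArrow.proj a.op X ⋙ P) K ≫ iP.inv ≫ (a.op.lan.map f).app X := by
      apply colimit.hom_ext
      intro i
      have hn := congr_app (a.op.lanUnit.naturality f) (K.obj i).left
      dsimp at hn
      simp only [γ, iP, iQ, α, ι_colimMap_assoc, colim_map, colimit.ι_pre_assoc, Functor.whiskerLeft_app]
      erw [Functor.ι_leftKanExtensionObjIsoColimit_inv,
        Functor.ι_leftKanExtensionObjIsoColimit_inv_assoc, reassoc_of% hn]
      simp
      rfl
    have : (a.op.lan.map f).app X = iP.hom ≫ inv (colimit.pre (CostructuredArrow.proj a.op X ⋙ P) K) ≫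
        γ ≫ colimit.pre (CostructuredArrow.proj a.op X ⋙ Q) K ≫ iQ.inv := by
      rw [e]; simp
    rw [this]
    infer_instance
  exact NatTrans.mono_of_mono_app _

/-- Left Kan extension along a flat functor preserves monomorphisms. -/
theorem preservesMono_lan_flat [RepresentablyFlat a] :
    (a.op.lan : (Cᵒᵖ ⥤ AddCommGrpCat.{u + 1}) ⥤ _).PreservesMonomorphisms := by
  constructor
  intro P Q f hf
  have : ∀ X, Mono ((a.op.lan.map f).app X) := by
    intro X
    have : IsFiltered (CostructuredArrow a.op X) :=
      IsFiltered.of_equivalence (structuredArrowOpEquivalence a X.unop)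
    have : AB5OfSize.{u, u + 1} AddCommGrpCat.{u + 1} := AB5OfSize_shrink.{u, u + 1, u + 1, u + 1} _
    let iP := Functor.leftKanExtensionObjIsoColimit a.op P X
    let iQ := Functor.leftKanExtensionObjIsoColimit a.op Q X
    let α := Functor.whiskerLeft (CostructuredArrow.proj a.op X) f
    have hγ : Mono (colim.map α) := by
      have : Mono α := by
        have : ∀ i, Mono (α.app i) := fun i => inferInstanceAs (Mono (f.app _))
        exact NatTrans.mono_of_mono_app _
      have := AB5OfSize.ofShape (C := AddCommGrpCat.{u + 1}) (CostructuredArrow a.op X)
      exact Functor.map_mono colim _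
    have e : colim.map α ≫ iQ.inv = iP.inv ≫ (a.op.lan.map f).app X := by
      apply colimit.hom_ext
      intro i
      have hn := congr_app (a.op.lanUnit.naturality f) i.left
      dsimp at hn
      simp only [iP, iQ, α, ι_colimMap_assoc, colim_map, Functor.whiskerLeft_app]
      erw [Functor.ι_leftKanExtensionObjIsoColimit_inv,
        Functor.ι_leftKanExtensionObjIsoColimit_inv_assoc, reassoc_of% hn]
      simp
      rfl
    rw [show (a.op.lan.map f).app X = iP.hom ≫ colim.map α ≫ iQ.inv by rw [e]; simp]
    infer_instance
  exact NatTrans.mono_of_mono_app _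

/-- Direct image along such a functor preserves injective sheaves. -/
theorem preservesInjectiveObjects_discrete [a.IsContinuous JC JD]
    [HasSheafify JD AddCommGrpCat.{u + 1}]
    (h : ∀ X : Dᵒᵖ, ∃ (κ : Type u) (K : Discrete κ ⥤ CostructuredArrow a.op X), K.Final) :
    (a.sheafPushforwardContinuous AddCommGrpCat.{u + 1} JC JD).PreservesInjectiveObjects := by
  have := preservesMono_lan_discrete a h
  have h1 : (Functor.sheafPullbackConstruction.sheafPullback a AddCommGrpCat.{u + 1} JC JD).PreservesMonomorphisms := by
    have : (presheafToSheaf JD AddCommGrpCat.{u + 1}).PreservesMonomorphisms := inferInstance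
    unfold Functor.sheafPullbackConstruction.sheafPullback
    infer_instance
  exact Functor.preservesInjectiveObjects_of_adjunction_of_preservesMonomorphisms
    (Functor.sheafPullbackConstruction.sheafAdjunctionContinuous a AddCommGrpCat.{u + 1} JC JD)

end

variable {T S : Scheme.{u}} (f : T ⟶ S)

/-- The comma categories of `Over.map` are discrete up to a final functor. -/
theorem exists_final_discrete (X : (Over S)ᵒᵖ) :
    ∃ (κ : Type u) (K : Discrete κ ⥤ CostructuredArrow (Over.map f).op X), K.Final := by
  let κ : Type u := {g : X.unop.left ⟶ T // g ≫ f = X.unop.hom}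
  let K : Discrete κ ⥤ CostructuredArrow (Over.map f).op X := Discrete.functor fun g =>
    CostructuredArrow.mk (Y := op (Over.mk g.1)) (Over.homMk (U := X.unop)
      (V := (Over.map f).obj (Over.mk g.1)) (𝟙 _) (by simpa using g.2)).op
  let L : CostructuredArrow (Over.map f).op X ⥤ Discrete κ :=
    { obj := fun k => ⟨⟨k.hom.unop.left ≫ k.left.unop.hom, by
        have := Over.w k.hom.unop
        simpa [Category.assoc] using this⟩⟩
      map := fun {k k'} m => Discrete.eqToHom (Subtype.ext (by
        have h1 := Over.w m.left.unop
        have h2 := congrArg (fun q => q.unop.left) (CostructuredArrow.w m)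
        dsimp at h1 h2 ⊢
        rw [← h1, ← h2, Category.assoc]))
      map_id := fun _ => Subsingleton.elim _ _
      map_comp := fun _ _ => Subsingleton.elim _ _ }
  let adj : L ⊣ K := Adjunction.mkOfHomEquiv
    { homEquiv := fun k g =>
        { toFun := fun e => CostructuredArrow.homMk (Over.homMk (U := Over.mk g.as.1)
            (V := k.left.unop) k.hom.unop.left (by
              have := congrArg Subtype.val (Discrete.eq_of_hom e)
              simpa [L] using this)).op (Quiver.Hom.unop_inj (Over.OverMorphism.ext (by
              dsimp [K]; simp)))
          invFun := fun m => Discrete.eqToHom (Subtype.ext (by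
            have h1 := Over.w m.left.unop
            have h2 := congrArg (fun q => q.unop.left) (CostructuredArrow.w m)
            dsimp [K, L] at h1 h2 ⊢
            simp [← h2, h1]))
          left_inv := fun _ => Subsingleton.elim _ _
          right_inv := fun m => CostructuredArrow.hom_ext _ _ (Quiver.Hom.unop_inj
            (Over.OverMorphism.ext (by
              have h2 := congrArg (fun q => q.unop.left) (CostructuredArrow.w m)
              dsimp [K] at h2 ⊢
              simpa using h2.symm))) }
      homEquiv_naturality_left_symm := fun _ _ => Subsingleton.elim _ _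
      homEquiv_naturality_right := fun {k g g'} e e' => by
        obtain ⟨g⟩ := g
        obtain ⟨g'⟩ := g'
        obtain rfl : g = g' := Discrete.eq_of_hom e'
        rw [show e' = 𝟙 _ from Subsingleton.elim _ _]
        simp }
  have := Adjunction.isRightAdjoint adj
  exact ⟨κ, K, inferInstance⟩

/-- Restriction to the small pro-etale site preserves injectives. -/
theorem injective_restrict
    [(Scheme.ProEt.forget T ⋙ Over.map f).IsContinuous (Scheme.ProEt.topology T)
      (Scheme.proetaleTopology.over S)]
    (I : Sheaf (Scheme.proetaleTopology.over S) AddCommGrpCat.{u + 1}) [Injective I] :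
    Injective (((Scheme.ProEt.forget T ⋙ Over.map f).sheafPushforwardContinuous AddCommGrpCat.{u + 1}
      (Scheme.ProEt.topology T) (Scheme.proetaleTopology.over S)).obj I) := by
  have h1 := preservesInjectiveObjects_discrete (JC := Scheme.proetaleTopology.over T)
    (JD := Scheme.proetaleTopology.over S) (Over.map f) (exists_final_discrete f)
  have : Injective (((Over.map f).sheafPushforwardContinuous AddCommGrpCat.{u + 1}
    (Scheme.proetaleTopology.over T) (Scheme.proetaleTopology.over S)).obj I) := h1.injective_obj ‹_›
  have h2 : ((Scheme.ProEt.forget T).sheafPushforwardContinuous AddCommGrpCat.{u + 1}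
      (Scheme.ProEt.topology T) (Scheme.proetaleTopology.over T)).PreservesInjectiveObjects := by
    have : RepresentablyFlat (Scheme.ProEt.forget T) := by
      have : PreservesFiniteLimits (Scheme.ProEt.forget T) := inferInstanceAs
        (PreservesFiniteLimits (MorphismProperty.Over.forget @WeaklyEtale ⊤ T))
      exact flat_of_preservesFiniteLimits _
    have := preservesMono_lan_flat (Scheme.ProEt.forget T)
    have h : (Functor.sheafPullbackConstruction.sheafPullback (Scheme.ProEt.forget T)
        AddCommGrpCat.{u + 1} (Scheme.ProEt.topology T)
        (Scheme.proetaleTopology.over T)).PreservesMonomorphisms := by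
      have : (presheafToSheaf (Scheme.proetaleTopology.over T)
        AddCommGrpCat.{u + 1}).PreservesMonomorphisms := inferInstance
      unfold Functor.sheafPullbackConstruction.sheafPullback
      infer_instance
    exact Functor.preservesInjectiveObjects_of_adjunction_of_preservesMonomorphisms
      (Functor.sheafPullbackConstruction.sheafAdjunctionContinuous (Scheme.ProEt.forget T)
        AddCommGrpCat.{u + 1} (Scheme.ProEt.topology T) (Scheme.proetaleTopology.over T))
  exact h2.injective_obj this

end Groth.EtaleDeep.ProEt
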