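import Groth.Agent.EtaleDeep.IndEt.HenselLift
import Groth.Agent.FlatMor2.WeaklyEtaleStalk

/-!
# Henselian lifts in terms of affine schemes
-/

set_option autoImplicit false
set_option linter.style.haveILetI false

universe u

open CategoryTheory CategoryTheory.Limits AlgebraicGeometry

namespace Groth.EtaleDeep.SpecLift

/-- Quotients as pushouts. -/
theorem isPushout_of_surjective {A R C B : CommRingCat.{u}} (f : A ⟶ R) (g : R ⟶ B) (α : A ⟶ C)
    (π : C ⟶ B) (w : f ≫ g = α ≫ π) (hf : Function.Surjective f.hom)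
    (hπ : Function.Surjective π.hom)
    (hker : RingHom.ker π.hom = (RingHom.ker f.hom).map α.hom) : IsPushout α f π g := by
  have hle : ∀ s : PushoutCocone α f, RingHom.ker π.hom ≤ RingHom.ker s.inl.hom := fun s => by
    rw [hker, Ideal.map_le_iff_le_comap]
    intro x hx
    change s.inl.hom (α.hom x) = 0
    refine (congrArg (fun m => m.hom x) s.condition).trans ?_
    change s.inr.hom (f.hom x) = 0
    rw [RingHom.mem_ker.1 hx, map_zero]
  let d : ∀ s : PushoutCocone α f, B ⟶ s.pt := fun s =>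
    CommRingCat.ofHom (π.hom.liftOfSurjective hπ ⟨s.inl.hom, hle s⟩)
  have hd : ∀ (s : PushoutCocone α f) x, (d s).hom (π.hom x) = s.inl.hom x := fun s x =>
    π.hom.liftOfRightInverse_comp_apply _ (Function.rightInverse_surjInv hπ) ⟨s.inl.hom, hle s⟩ x
  refine ⟨⟨w.symm⟩, ⟨PushoutCocone.IsColimit.mk w.symm d (fun s => ?_) (fun s => ?_)
    (fun s m hm _ => ?_)⟩⟩
  · exact CommRingCat.hom_ext (RingHom.ext (hd s))
  · refine CommRingCat.hom_ext (RingHom.ext fun y => ?_)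
    obtain ⟨x, rfl⟩ := hf y
    change (d s).hom (g.hom (f.hom x)) = s.inr.hom (f.hom x)
    rw [show g.hom (f.hom x) = π.hom (α.hom x) from congrArg (fun m => m.hom x) w, hd]
    exact congrArg (fun m => m.hom x) s.condition
  · refine CommRingCat.hom_ext (RingHom.ext fun b => ?_)
    obtain ⟨x, rfl⟩ := hπ b
    exact (congrArg (fun q => q.hom x) hm).trans (hd s x).symm

variable {S : Scheme.{u}} [IsAffine S]

/-- A closed subscheme cut out by the pullback of an ideal is a pullback. -/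
theorem isPullback_of_surjective {X Z P : Scheme.{u}} [IsAffine P] {A C : CommRingCat.{u}}
    {j : Spec A ⟶ X} {i : Z ⟶ X} {cl : P ⟶ Spec A} {z : P ⟶ Z} (hP : IsPullback cl z j i)
    (f : A ⟶ Γ(P, ⊤)) (hf : Spec.map f = P.isoSpec.inv ≫ cl) (hfs : Function.Surjective f.hom)
    (α : A ⟶ C) (g : Γ(P, ⊤) ⟶ Γ(S, ⊤)) (π : C ⟶ Γ(S, ⊤)) (w : f ≫ g = α ≫ π)
    (hπ : Function.Surjective π.hom) (hker : RingHom.ker π.hom = (RingHom.ker f.hom).map α.hom)
    (βa : S ⟶ Spec C) (hβa : βa = S.isoSpec.hom ≫ Spec.map π)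
    (h : S ⟶ P) (hg : Spec.map g = S.isoSpec.inv ≫ h ≫ P.isoSpec.hom) :
    IsPullback βa (h ≫ z) (Spec.map α ≫ j) i := by
  have h1 := isPullback_SpecMap_of_isPushout _ _ _ _ (isPushout_of_surjective f g α π w hfs hπ hker)
  have h2 : IsPullback βa h (Spec.map α) cl := by
    refine h1.of_iso S.isoSpec.symm (Iso.refl _) P.isoSpec.symm (Iso.refl _) ?_ ?_ ?_ ?_
    · simp [hβa]
    · simp [hg]
    · simp
    · simp [hf]
  exact h2.paste_vert hP

/-- Weakly etale affine schemes over the lift have sections extending given ones. -/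
theorem exists_section_lift {C : CommRingCat.{u}} [Algebra C Γ(S, ⊤)]
    (hS : EtPBC.IsWContractible Γ(S, ⊤)) (hL : IndEt.Lifts C (Algebra.ofId C Γ(S, ⊤)))
    (βa : S ⟶ Spec C)
    (hβa : βa = S.isoSpec.hom ≫ Spec.map (CommRingCat.ofHom (algebraMap C Γ(S, ⊤))))
    {Q : Scheme.{u}} [IsAffine Q] (q : Q ⟶ Spec C) [WeaklyEtale q] (σ : S ⟶ Q) (hσ : σ ≫ q = βa) :
    ∃ s : Spec C ⟶ Q, s ≫ q = 𝟙 _ ∧ βa ≫ s = σ := by
  obtain ⟨δ, hδ⟩ : ∃ δ : C ⟶ Γ(Q, ⊤), Spec.map δ = Q.isoSpec.inv ≫ q :=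
    ⟨Spec.preimage _, Spec.map_preimage _⟩
  obtain ⟨τ, hτ⟩ : ∃ τ : Γ(Q, ⊤) ⟶ Γ(S, ⊤), Spec.map τ = S.isoSpec.inv ≫ σ ≫ Q.isoSpec.hom :=
    ⟨Spec.preimage _, Spec.map_preimage _⟩
  have hδτ : δ ≫ τ = CommRingCat.ofHom (algebraMap C Γ(S, ⊤)) := by
    apply Spec.map_injective
    rw [Spec.map_comp, hδ, hτ]
    simp only [Category.assoc, Iso.hom_inv_id_assoc]
    rw [hσ, hβa, Iso.inv_hom_id_assoc]
  letI : Algebra C Γ(Q, ⊤) := δ.hom.toAlgebra
  have : Algebra.WeaklyEtale C Γ(Q, ⊤) := FlatMor2.isWeaklyEtaleHom_iff.1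
    ((FlatMor2.weaklyEtale_SpecMap_iff δ).1 (by rw [hδ]; infer_instance))
  let ρ : Γ(Q, ⊤) →ₐ[C] Γ(S, ⊤) := AlgHom.mk τ.hom fun x => congrArg (fun m => m.hom x) hδτ
  obtain ⟨s, hs⟩ := hL.exists_lift_weaklyEtale hS ρ
  have hsπ : CommRingCat.ofHom s.toRingHom ≫ CommRingCat.ofHom (algebraMap C Γ(S, ⊤)) = τ :=
    CommRingCat.hom_ext (RingHom.ext fun x => AlgHom.congr_fun hs x)
  have hδs : δ ≫ CommRingCat.ofHom s.toRingHom = 𝟙 _ :=
    CommRingCat.hom_ext (RingHom.ext fun x => s.commutes x)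
  refine ⟨Spec.map (CommRingCat.ofHom s.toRingHom) ≫ Q.isoSpec.inv, ?_, ?_⟩
  · rw [Category.assoc, ← hδ, ← Spec.map_comp, hδs, Spec.map_id]
  · rw [hβa, Category.assoc, ← Spec.map_comp_assoc, hsπ, hτ]
    simp only [Category.assoc, Iso.hom_inv_id_assoc, Iso.hom_inv_id, Category.comp_id]

/-- Endomorphisms of the lift are trivial. -/
theorem eq_id {A C : CommRingCat.{u}} [Algebra A C] [Algebra C Γ(S, ⊤)]
    (hendo : ∀ e : C →ₐ[A] C,
      (∀ c, algebraMap C Γ(S, ⊤) (e c) = algebraMap C Γ(S, ⊤) c) → e = AlgHom.id A C)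
    (βa : S ⟶ Spec C)
    (hβa : βa = S.isoSpec.hom ≫ Spec.map (CommRingCat.ofHom (algebraMap C Γ(S, ⊤))))
    (e : Spec C ⟶ Spec C)
    (he : e ≫ Spec.map (CommRingCat.ofHom (algebraMap A C)) =
      Spec.map (CommRingCat.ofHom (algebraMap A C))) (he' : βa ≫ e = βa) : e = 𝟙 _ := by
  obtain ⟨ε, rfl⟩ := Spec.map_surjective e
  rw [← Spec.map_comp] at he
  have h1 := Spec.map_injective he
  subst hβa
  rw [Category.assoc, cancel_epi, ← Spec.map_comp] at he'
  have h2 := Spec.map_injective he'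
  let εa : C →ₐ[A] C := AlgHom.mk ε.hom fun x => congrArg (fun m => m.hom x) h1
  have h3 := hendo εa fun c => congrArg (fun m => m.hom c) h2
  rw [show ε = 𝟙 _ from CommRingCat.hom_ext (RingHom.ext fun c => AlgHom.congr_fun h3 c), Spec.map_id]

end Groth.EtaleDeep.SpecLift
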