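import Groth.Agent.EtaleDeep.ProEt.Objects
import Groth.Agent.EtaleDeep.ProEt.SpecLift

/-!
# Henselian lifts of weakly contractible objects along a closed immersion
-/

set_option autoImplicit false
set_option backward.isDefEq.respectTransparency.types false
set_option linter.style.haveILetI false

universe u

open CategoryTheory CategoryTheory.Limits AlgebraicGeometry Opposite

namespace Groth.EtaleDeep.ProEt

variable {X Z : Scheme.{u}} (i : Z ⟶ X)

/-- The projection from a base change. -/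
noncomputable def bcFst (V : X.ProEt) : ((ProEtS.bcP i).obj V).left ⟶ V.left :=
  pullback.fst V.hom i

lemma bcMap_left_fst {V V' : X.ProEt} (m : V ⟶ V') :
    ((ProEtS.bcP i).map m).left ≫ bcFst i V' = bcFst i V ≫ m.left :=
  pullback.lift_fst _ _ _

lemma bc_hom_ext {W : Z.ProEt} {V : X.ProEt} {a b : W ⟶ (ProEtS.bcP i).obj V}
    (h : a.left ≫ bcFst i V = b.left ≫ bcFst i V) : a = b :=
  MorphismProperty.Over.Hom.ext (pullback.hom_ext h
    ((MorphismProperty.Over.w a).trans (MorphismProperty.Over.w b).symm))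

lemma bc_w {W : Z.ProEt} {V : X.ProEt} (a : W ⟶ (ProEtS.bcP i).obj V) :
    (a.left ≫ bcFst i V) ≫ V.hom = W.hom ≫ i := by
  rw [Category.assoc]
  refine (congrArg (a.left ≫ ·) (pullback.condition (f := V.hom) (g := i))).trans ?_
  exact (Category.assoc _ _ _).symm.trans (congrArg (· ≫ i) (MorphismProperty.Over.w a))

/-- A map to a base change. -/
noncomputable def mkBc {W : Z.ProEt} {V : X.ProEt} (β : W.left ⟶ V.left)
    (w : β ≫ V.hom = W.hom ≫ i) : W ⟶ (ProEtS.bcP i).obj V :=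
  MorphismProperty.Over.homMk (pullback.lift β W.hom w) (pullback.lift_snd _ _ _)

lemma mkBc_fst {W : Z.ProEt} {V : X.ProEt} (β : W.left ⟶ V.left)
    (w : β ≫ V.hom = W.hom ≫ i) : (mkBc i β w).left ≫ bcFst i V = β :=
  pullback.lift_fst _ _ _

/-- Maps into a base change factor through an affine object over a given affine open. -/
theorem exists_affine_factor (U : X.Opens) {W : Z.ProEt} [IsAffine W.left]
    (hU : Set.range (W.hom ≫ i) ⊆ (U : Set X)) (hW : HasClopenRefinements W) (V : X.ProEt)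
    (b : W ⟶ (ProEtS.bcP i).obj V) :
    ∃ (V' : X.ProEt) (p : V' ⟶ V) (b' : W ⟶ (ProEtS.bcP i).obj V'),
      IsAffine V'.left ∧ Set.range V'.hom ⊆ (U : Set X) ∧ b' ≫ (ProEtS.bcP i).map p = b := by
  let β := b.left ≫ bcFst i V
  let ι := {O : V.left.Opens // IsAffineOpen O ∧ O ≤ V.hom ⁻¹ᵁ U}
  let Vk : ι → X.ProEt := fun k => Scheme.ProEt.mk (k.1.ι ≫ V.hom)
  let Wk : ι → W.left.Opens := fun k => β ⁻¹ᵁ k.1
  have : ∀ k : ι, IsOpenImmersion (openHom (U := W) (Wk k)).left := fun k =>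
    inferInstanceAs (IsOpenImmersion (Wk k).ι)
  have hcov : Sieve.generate (Presieve.ofArrows (fun k => Scheme.ProEt.mk ((Wk k).ι ≫ W.hom))
      (fun k => openHom (Wk k))) ∈ Scheme.ProEt.topology Z W := by
    refine openImmersions_mem_topology _ _ fun x => ?_
    have hx : β x ∈ V.hom ⁻¹ᵁ U := by
      have h := congrArg (fun m => m x) (bc_w i b)
      exact Set.mem_preimage.2 (hU ⟨x, h.symm⟩)
    obtain ⟨O, hO, hxO, hle⟩ := TopologicalSpace.Opens.isBasis_iff_nbhd.1 V.left.isBasis_affineOpens hx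
    exact ⟨⟨O, hO, hle⟩, ((Wk ⟨O, hO, hle⟩).range_ι).symm ▸ hxO⟩
  obtain ⟨n, P, -, hdisj, hPc, hmem⟩ := hW _ hcov
  have hk : ∀ l, ∃ k : ι, (P l : Set W.left) ⊆ β ⁻¹' k.1 := fun l => by
    obtain ⟨Y, a, c, ⟨k⟩, hac⟩ := hmem l
    refine ⟨k, fun x hx => ?_⟩
    have h := congrArg (fun m => m.left ⟨x, hx⟩) hac
    have h2 : (Wk k).ι (a.left ⟨x, hx⟩) = x := h
    rw [← h2]
    exact (a.left ⟨x, hx⟩).2
  choose k hk using hk
  have : ∀ l, IsAffine (Vk (k l)).left := fun l => (k l).2.1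
  let V' := sigmaObj fun l => Vk (k l)
  let p : V' ⟶ V := sigmaDesc _ fun l => openHom (k l).1
  have hsub : ∀ l, Set.range ((P l).ι ≫ β) ⊆ Set.range (k l).1.ι := fun l => by
    rintro _ ⟨x, rfl⟩
    rw [Scheme.Opens.range_ι]
    exact hk l x.2
  let γ : ∀ l, (P l).toScheme ⟶ (k l).1.toScheme := fun l =>
    IsOpenImmersion.lift (k l).1.ι ((P l).ι ≫ β) (hsub l)
  let c : ∀ l, Scheme.ProEt.mk ((P l).ι ≫ W.hom) ⟶ (ProEtS.bcP i).obj (Vk (k l)) := fun l =>
    mkBc i (γ l) (by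
      change γ l ≫ (k l).1.ι ≫ V.hom = ((P l).ι ≫ W.hom) ≫ i
      rw [IsOpenImmersion.lift_fac_assoc, Category.assoc, Category.assoc]
      exact congrArg ((P l).ι ≫ ·) (bc_w i b))
  have hyon := fun T : Z.ProEt => bijective_of_decomposition
    (GrothendieckTopology.Subcanonical.isSheaf_of_isRepresentable
      (J := Scheme.ProEt.topology Z) (yoneda.obj T)) P hdisj hPc
  obtain ⟨b', hb'⟩ := (hyon ((ProEtS.bcP i).obj V')).2
    fun l => c l ≫ (ProEtS.bcP i).map (sigmaIncl (fun l => Vk (k l)) l)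
  refine ⟨V', p, b', inferInstanceAs (IsAffine (∐ fun l => (Vk (k l)).left)), ?_, ?_⟩
  · rintro _ ⟨y, rfl⟩
    obtain ⟨l, z, rfl⟩ : ∃ l z, Sigma.ι (fun l => (Vk (k l)).left) l z = y :=
      ⟨_, (sigmaOpenCover (fun l => (Vk (k l)).left)).covers y⟩
    have h : V'.hom (Sigma.ι (fun l => (Vk (k l)).left) l z) = (Vk (k l)).hom z :=
      congrArg (fun m => m z) (Sigma.ι_desc (fun l => (Vk (k l)).hom) l)
    exact h ▸ (k l).2.2 z.2
  · refine (hyon _).1 (funext fun l => ?_)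
    have h1 : openHom (P l) ≫ b' = c l ≫ (ProEtS.bcP i).map (sigmaIncl (fun l => Vk (k l)) l) := congrFun hb' l
    change openHom (P l) ≫ b' ≫ (ProEtS.bcP i).map p = openHom (P l) ≫ b
    rw [reassoc_of% h1, ← Functor.map_comp, sigmaIncl_desc]
    refine bc_hom_ext i ?_
    refine (Category.assoc _ _ _).trans ((congrArg ((c l).left ≫ ·) (bcMap_left_fst i _)).trans ?_)
    refine ((Category.assoc _ _ _).symm.trans (congrArg (· ≫ _) (mkBc_fst i _ _))).trans ?_
    exact (IsOpenImmersion.lift_fac (k l).1.ι ((P l).ι ≫ β) (hsub l)).trans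
      (Category.assoc _ _ _).symm

/-- Maps from the lift exist, given sections over affine weakly etale schemes. -/
theorem exists_hom_of_sections {A C : CommRingCat.{u}} (j : Spec A ⟶ X) [IsOpenImmersion j]
    (U : X.Opens) (hrj : Set.range j = (U : Set X)) {W : Z.ProEt} [IsAffine W.left]
    (hWU : Set.range (W.hom ≫ i) ⊆ (U : Set X)) (hW : HasClopenRefinements W)
    (α : A ⟶ C) [WeaklyEtale (Spec.map α ≫ j)] (βa : W.left ⟶ Spec C)
    (hw : βa ≫ Spec.map α ≫ j = W.hom ≫ i)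
    (hsec : ∀ {Q : Scheme.{u}} [IsAffine Q] (q : Q ⟶ Spec C) [WeaklyEtale q] (σ : W.left ⟶ Q),
      σ ≫ q = βa → ∃ s : Spec C ⟶ Q, s ≫ q = 𝟙 _ ∧ βa ≫ s = σ)
    (V : X.ProEt) (b : W ⟶ (ProEtS.bcP i).obj V) :
    ∃ m : Scheme.ProEt.mk (Spec.map α ≫ j) ⟶ V,
      mkBc i (V := Scheme.ProEt.mk (Spec.map α ≫ j)) βa hw ≫ (ProEtS.bcP i).map m = b := by
  obtain ⟨V', p, b', hV', hVU, hb'⟩ := exists_affine_factor i U hWU hW V b
  let q : V'.left ⟶ Spec A := IsOpenImmersion.lift j V'.hom (hrj.symm ▸ hVU)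
  have hq : q ≫ j = V'.hom := IsOpenImmersion.lift_fac _ _ _
  have : WeaklyEtale q := by
    have : WeaklyEtale (q ≫ j) := by rw [hq]; exact V'.prop
    exact WeaklyEtale.of_comp q j
  let β' : W.left ⟶ V'.left := b'.left ≫ bcFst i V'
  have hβ' : βa ≫ Spec.map α = β' ≫ q := by
    refine (cancel_mono j).1 ?_
    refine (Category.assoc _ _ _).trans (hw.trans ?_)
    exact ((bc_w i b').symm.trans (congrArg (β' ≫ ·) hq.symm)).trans (Category.assoc _ _ _).symm
  obtain ⟨s, hs, hs'⟩ := hsec (pullback.fst (Spec.map α) q) (pullback.lift βa β' hβ')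
    (pullback.lift_fst _ _ _)
  have hm : (s ≫ pullback.snd (Spec.map α) q) ≫ V'.hom = Spec.map α ≫ j := by
    have h5 : (s ≫ pullback.fst (Spec.map α) q) ≫ Spec.map α ≫ j = Spec.map α ≫ j := by
      rw [hs, Category.id_comp]
    refine Eq.trans ?_ h5
    rw [Category.assoc, Category.assoc, pullback.condition_assoc, hq]
  let m : Scheme.ProEt.mk (Spec.map α ≫ j) ⟶ V' :=
    MorphismProperty.Over.homMk (s ≫ pullback.snd (Spec.map α) q) hm
  refine ⟨m ≫ p, ?_⟩
  rw [Functor.map_comp, ← hb', ← Category.assoc]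
  congr 1
  refine bc_hom_ext i ?_
  refine (Category.assoc _ _ _).trans ((congrArg (_ ≫ ·) (bcMap_left_fst i m)).trans ?_)
  refine (Category.assoc _ _ _).symm.trans ((congrArg (· ≫ m.left) (mkBc_fst i _ _)).trans ?_)
  refine (Category.assoc _ _ _).symm.trans ((congrArg (· ≫ _) hs').trans ?_)
  exact pullback.lift_snd _ _ _

/-- The henselian lift of a weakly contractible affine object along a closed immersion. -/
theorem exists_henselLift [IsClosedImmersion i] {U : X.Opens} (hU : IsAffineOpen U) (W : Z.ProEt)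
    [IsAffine W.left]
    (hW : EtPBC.IsWContractible Γ(W.left, ⊤)) (hWU : Set.range (W.hom ≫ i) ⊆ (U : Set X)) :
    ∃ (Wt : X.ProEt) (a : W ⟶ (ProEtS.bcP i).obj Wt), IsAffine Wt.left ∧
      EtPBC.IsWContractible Γ(Wt.left, ⊤) ∧ IsIso a ∧
      (∀ (V : X.ProEt) (b : W ⟶ (ProEtS.bcP i).obj V),
        ∃ m : Wt ⟶ V, a ≫ (ProEtS.bcP i).map m = b) ∧
      ∀ e : Wt ⟶ Wt, a ≫ (ProEtS.bcP i).map e = a → e = 𝟙 Wt := by
  let j := hU.fromSpec
  have hrj : Set.range j = (U : Set X) := hU.range_fromSpec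
  let h₀ : W.left ⟶ Spec Γ(X, U) := IsOpenImmersion.lift j (W.hom ≫ i) (hrj.symm ▸ hWU)
  have hh₀ : h₀ ≫ j = W.hom ≫ i := IsOpenImmersion.lift_fac _ _ _
  let P := pullback j i
  let cl : P ⟶ Spec Γ(X, U) := pullback.fst j i
  have : IsClosedImmersion cl := MorphismProperty.pullback_fst j i inferInstance
  have : IsAffine P := isAffine_of_isAffineHom cl
  let h : W.left ⟶ P := pullback.lift h₀ W.hom hh₀
  have : WeaklyEtale h := by
    have : WeaklyEtale (h ≫ pullback.snd j i) := by rw [pullback.lift_snd]; exact W.prop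
    exact WeaklyEtale.of_comp h (pullback.snd j i)
  let f : Γ(X, U) ⟶ Γ(P, ⊤) := (Scheme.ΓSpecIso Γ(X, U)).inv ≫ cl.appTop
  have hf : Spec.map f = P.isoSpec.inv ≫ cl := by
    rw [Spec.map_comp, ← Scheme.isoSpec_Spec_inv, Scheme.isoSpec_inv_naturality]
  have hfs : Function.Surjective f.hom := fun y => by
    obtain ⟨x, rfl⟩ := (IsClosedImmersion.isAffine_surjective_of_isAffine cl).2 y
    obtain ⟨z, rfl⟩ := (Scheme.ΓSpecIso Γ(X, U)).commRingCatIsoToRingEquiv.symm.surjective x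
    exact ⟨z, rfl⟩
  obtain ⟨g, hg⟩ : ∃ g : Γ(P, ⊤) ⟶ Γ(W.left, ⊤),
      Spec.map g = W.left.isoSpec.inv ≫ h ≫ P.isoSpec.hom :=
    ⟨Spec.preimage _, Spec.map_preimage _⟩
  have hθ : Spec.map (f ≫ g) = W.left.isoSpec.inv ≫ h₀ := by
    rw [Spec.map_comp, hf, hg]
    simp only [Category.assoc, Iso.hom_inv_id_assoc]
    rw [pullback.lift_fst]
  have hgwe : WeaklyEtale (Spec.map g) := by rw [hg]; infer_instance
  let I : Ideal Γ(X, U) := RingHom.ker f.hom
  let eR : Γ(X, U) ⧸ I ≃+* Γ(P, ⊤) := RingHom.quotientKerEquivOfSurjective hfs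
  letI : Algebra (Γ(X, U) ⧸ I) Γ(W.left, ⊤) := (g.hom.comp eR.toRingHom).toAlgebra
  letI : Algebra Γ(X, U) Γ(W.left, ⊤) := (f ≫ g).hom.toAlgebra
  have : IsScalarTower Γ(X, U) (Γ(X, U) ⧸ I) Γ(W.left, ⊤) :=
    IsScalarTower.of_algebraMap_eq fun x => rfl
  have : Algebra.WeaklyEtale (Γ(X, U) ⧸ I) Γ(W.left, ⊤) :=
    FlatMor2.isWeaklyEtaleHom_iff.1 <| FlatMor2.IsWeaklyEtaleHom.comp
      (FlatMor2.IsWeaklyEtaleHom.of_bijective eR.bijective)
      ((FlatMor2.weaklyEtale_SpecMap_iff g).1 hgwe)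
  obtain ⟨C, _, _, _, _, hind, hC, hsurj, hker, hL, hendo⟩ :=
    IndEt.exists_wContractible_lift I Γ(W.left, ⊤) hW
  let α : Γ(X, U) ⟶ CommRingCat.of C := CommRingCat.ofHom (algebraMap Γ(X, U) C)
  let π : CommRingCat.of C ⟶ Γ(W.left, ⊤) := CommRingCat.ofHom (algebraMap C Γ(W.left, ⊤))
  have hαπ : f ≫ g = α ≫ π := CommRingCat.hom_ext (RingHom.ext fun x =>
    IsScalarTower.algebraMap_apply Γ(X, U) C Γ(W.left, ⊤) x)
  have hαwe : WeaklyEtale (Spec.map α) := (FlatMor2.weaklyEtale_SpecMap_iff α).2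
    (FlatMor2.isWeaklyEtaleHom_iff.2 (IndEt.weaklyEtale hind))
  let βa : W.left ⟶ Spec (CommRingCat.of C) := W.left.isoSpec.hom ≫ Spec.map π
  have hβa : βa ≫ Spec.map α = h₀ := by
    simp only [βa, Category.assoc]
    rw [← Spec.map_comp, ← hαπ, hθ, Iso.hom_inv_id_assoc]
  have hw : βa ≫ Spec.map α ≫ j = W.hom ≫ i := by rw [reassoc_of% hβa, hh₀]
  refine ⟨Scheme.ProEt.mk (Spec.map α ≫ j), mkBc i βa hw,
    inferInstanceAs (IsAffine (Spec (CommRingCat.of C))), isWContractible_of_ringEquiv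
    (Scheme.ΓSpecIso (CommRingCat.of C)).symm.commRingCatIsoToRingEquiv hC, ?_, ?_, ?_⟩
  · have hP : IsPullback cl (pullback.snd j i) j i := IsPullback.of_hasPullback j i
    have hz : h ≫ pullback.snd j i = W.hom := pullback.lift_snd _ _ _
    have hpb := SpecLift.isPullback_of_surjective hP f hf hfs α g π hαπ hsurj hker βa rfl h hg
    rw [hz] at hpb
    have hiso : IsIso (mkBc i (V := Scheme.ProEt.mk (Spec.map α ≫ j)) βa hw).left := by
      have : (mkBc i (V := Scheme.ProEt.mk (Spec.map α ≫ j)) βa hw).left = hpb.isoPullback.hom :=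
        pullback.hom_ext ((pullback.lift_fst _ _ _).trans hpb.isoPullback_hom_fst.symm)
          ((pullback.lift_snd _ _ _).trans hpb.isoPullback_hom_snd.symm)
      rw [this]
      infer_instance
    have : IsIso ((Scheme.ProEt.forget Z ⋙ Over.forget Z).map
        (mkBc i (V := Scheme.ProEt.mk (Spec.map α ≫ j)) βa hw)) := hiso
    exact isIso_of_reflects_iso _ (Scheme.ProEt.forget Z ⋙ Over.forget Z)
  · exact fun V b => exists_hom_of_sections i j U hrj hWU
      (refinements_of_hasSections (hasSections_of_isWContractible hW)) α βa hw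
      (fun q _ σ hσ => SpecLift.exists_section_lift hW hL βa rfl q σ hσ) V b
  · intro e he
    have h1 : e.left ≫ Spec.map α = Spec.map α := by
      refine (cancel_mono j).1 ?_
      exact (Category.assoc _ _ _).trans (MorphismProperty.Over.w e)
    have h2 := congrArg (fun m => m.left ≫ bcFst i (Scheme.ProEt.mk (Spec.map α ≫ j))) he
    have h3 : βa ≫ e.left = βa := by
      refine Eq.trans ?_ (h2.trans (mkBc_fst i _ _))
      refine Eq.symm ((Category.assoc _ _ _).trans ((congrArg (_ ≫ ·) (bcMap_left_fst i e)).trans ?_))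
      exact (Category.assoc _ _ _).symm.trans (congrArg (· ≫ e.left) (mkBc_fst i _ _))
    exact MorphismProperty.Over.Hom.ext (SpecLift.eq_id (A := Γ(X, U)) (C := CommRingCat.of C)
      (S := W.left) hendo βa rfl e.left h1 h3)

end Groth.EtaleDeep.ProEt
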