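import Groth.Agent.EtaleDeep.ProEt.Lan

/-!
# Inverse image presheaves of abelian sheaves on weakly contractible objects
-/

set_option autoImplicit false
set_option backward.isDefEq.respectTransparency.types false
set_option linter.style.haveILetI false

universe u

open CategoryTheory CategoryTheory.Limits AlgebraicGeometry Opposite

namespace Groth.EtaleDeep.ProEt

variable {X Y : Scheme.{u}}

lemma preservesColimitsOfShape_lan (f : X ⟶ Y) (W : X.ProEt) :
    PreservesColimitsOfShape (CostructuredArrow (ProEtS.bcP f).op (op W))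
      (forget AddCommGrpCat.{u + 1}) := by
  have := flat_bcP f
  have : IsFiltered (CostructuredArrow (ProEtS.bcP f).op (op W)) := inferInstance
  have : PreservesFilteredColimitsOfSize.{u, u + 1} (forget AddCommGrpCat.{u + 1}) :=
    preservesFilteredColimitsOfSize_shrink.{u + 1, u + 1, u, u + 1} _
  exact PreservesFilteredColimitsOfSize.preserves_filtered_colimits _

section

variable (f : X ⟶ Y) (F : ProEtS.AbP Y)

/-- The presheaf inverse image. -/
noncomputable abbrev lanObjAb : X.ProEtᵒᵖ ⥤ AddCommGrpCat.{u + 1} :=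
  (ProEtS.bcP f).op.leftKanExtension F.obj

/-- The element attached to a morphism to a base change and a section. -/
noncomputable def germAb {W : X.ProEt} (V : Y.ProEt) (a : W ⟶ (ProEtS.bcP f).obj V)
    (s : F.obj.obj (op V)) : (lanObjAb f F).obj (op W) :=
  (lanObjAb f F).map a.op (((ProEtS.bcP f).op.leftKanExtensionUnit F.obj).app (op V) s)

lemma map_germAb {W W' : X.ProEt} (g : W' ⟶ W) (V : Y.ProEt) (a : W ⟶ (ProEtS.bcP f).obj V)
    (s : F.obj.obj (op V)) :
    (lanObjAb f F).map g.op (germAb f F V a s) = germAb f F V (g ≫ a) s := by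
  rw [germAb, germAb, op_comp, Functor.map_comp]
  rfl

lemma germAb_map {W : X.ProEt} {V V' : Y.ProEt} (h : V' ⟶ V) (a : W ⟶ (ProEtS.bcP f).obj V')
    (s : F.obj.obj (op V)) :
    germAb f F V' a (F.obj.map h.op s) = germAb f F V (a ≫ (ProEtS.bcP f).map h) s := by
  rw [germAb, germAb, NatTrans.naturality_apply ((ProEtS.bcP f).op.leftKanExtensionUnit F.obj) h.op s,
    op_comp, Functor.map_comp]
  rfl

theorem exists_germAb {W : X.ProEt} (x : (lanObjAb f F).obj (op W)) :
    ∃ (V : Y.ProEt) (a : W ⟶ (ProEtS.bcP f).obj V) (s : F.obj.obj (op V)),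
      germAb f F V a s = x := by
  have := preservesColimitsOfShape_lan f W
  obtain ⟨j, s, hs⟩ := Types.jointly_surjective_of_isColimit
    (isColimitOfPreserves (forget AddCommGrpCat.{u + 1})
      ((ProEtS.bcP f).op.isPointwiseLeftKanExtensionLeftKanExtensionUnit F.obj (op W))) x
  exact ⟨j.left.unop, j.hom.unop, s, hs⟩

theorem germAb_eq_germAb {W : X.ProEt} {V : Y.ProEt} {a : W ⟶ (ProEtS.bcP f).obj V}
    {s s' : F.obj.obj (op V)} (h : germAb f F V a s = germAb f F V a s') :
    ∃ (V' : Y.ProEt) (p : V' ⟶ V) (b : W ⟶ (ProEtS.bcP f).obj V'),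
      b ≫ (ProEtS.bcP f).map p = a ∧ F.obj.map p.op s = F.obj.map p.op s' := by
  have := flat_bcP f
  have : IsFiltered (CostructuredArrow (ProEtS.bcP f).op (op W)) := inferInstance
  have := preservesColimitsOfShape_lan f W
  obtain ⟨j, q, hq⟩ := (Types.FilteredColimit.isColimit_eq_iff'
    (isColimitOfPreserves (forget AddCommGrpCat.{u + 1})
      ((ProEtS.bcP f).op.isPointwiseLeftKanExtensionLeftKanExtensionUnit F.obj (op W)))
    (i := CostructuredArrow.mk (Y := op V) a.op) s s').1 h
  exact ⟨j.left.unop, q.left.unop, j.hom.unop, Quiver.Hom.op_inj (CostructuredArrow.w q), hq⟩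

theorem exists_common_germAb {W : X.ProEt} (x y : (lanObjAb f F).obj (op W)) :
    ∃ (V : Y.ProEt) (a : W ⟶ (ProEtS.bcP f).obj V) (s t : F.obj.obj (op V)),
      germAb f F V a s = x ∧ germAb f F V a t = y := by
  have := flat_bcP f
  have : IsFiltered (CostructuredArrow (ProEtS.bcP f).op (op W)) := inferInstance
  obtain ⟨V₁, a₁, s₁, rfl⟩ := exists_germAb f F x
  obtain ⟨V₂, a₂, s₂, rfl⟩ := exists_germAb f F y
  let i₁ := CostructuredArrow.mk (S := (ProEtS.bcP f).op) (Y := op V₁) a₁.op
  let i₂ := CostructuredArrow.mk (S := (ProEtS.bcP f).op) (Y := op V₂) a₂.op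
  let k := IsFiltered.max i₁ i₂
  let q₁ : i₁ ⟶ k := IsFiltered.leftToMax i₁ i₂
  let q₂ : i₂ ⟶ k := IsFiltered.rightToMax i₁ i₂
  refine ⟨k.left.unop, k.hom.unop, F.obj.map q₁.left.unop.op s₁, F.obj.map q₂.left.unop.op s₂,
    ?_, ?_⟩
  · rw [germAb_map]
    congr 1
    exact Quiver.Hom.op_inj (CostructuredArrow.w q₁)
  · rw [germAb_map]
    congr 1
    exact Quiver.Hom.op_inj (CostructuredArrow.w q₂)

/-- The presheaf inverse image sends finite decompositions to products. -/
theorem bijective_lanAb_decomposition {n : ℕ} {W : X.ProEt} (O : Fin n → W.left.Opens)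
    (hdisj : Pairwise fun k l => Disjoint (O k : Set ↥W.left) (O l))
    (hcov : (⋃ k, (O k : Set ↥W.left)) = Set.univ) :
    Function.Bijective fun (x : (lanObjAb f F).obj (op W)) (k : Fin n) =>
      (lanObjAb f F).map (openHom (O k)).op x := by
  have hyon := fun T : X.ProEt => bijective_of_decomposition
    (GrothendieckTopology.Subcanonical.isSheaf_of_isRepresentable
      (J := Scheme.ProEt.topology X) (yoneda.obj T)) O hdisj hcov
  have hF := (isSheaf_iff_isSheaf_of_type _ _).1
    ((sheafCompose (Scheme.ProEt.topology Y) (forget AddCommGrpCat.{u + 1})).obj F).property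
  constructor
  · intro x y hxy
    obtain ⟨V, a, s, t, rfl, rfl⟩ := exists_common_germAb f F x y
    have h : ∀ k, ∃ (V' : Y.ProEt) (p : V' ⟶ V) (b : _ ⟶ (ProEtS.bcP f).obj V'),
        b ≫ (ProEtS.bcP f).map p = openHom (O k) ≫ a ∧ F.obj.map p.op s = F.obj.map p.op t :=
      fun k => germAb_eq_germAb f F (by
        have := congrFun hxy k
        simp only [map_germAb] at this
        exact this)
    choose V' p b hb hp using h
    obtain ⟨c, hc⟩ := (hyon ((ProEtS.bcP f).obj (sigmaObj V'))).2
      fun k => b k ≫ (ProEtS.bcP f).map (sigmaIncl V' k)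
    have hca : c ≫ (ProEtS.bcP f).map (sigmaDesc V' p) = a := (hyon _).1 (funext fun k => by
      have h1 : openHom (O k) ≫ c = b k ≫ (ProEtS.bcP f).map (sigmaIncl V' k) := congrFun hc k
      change openHom (O k) ≫ c ≫ (ProEtS.bcP f).map (sigmaDesc V' p) = openHom (O k) ≫ a
      rw [reassoc_of% h1, ← Functor.map_comp, sigmaIncl_desc, hb])
    have hst : F.obj.map (sigmaDesc V' p).op s = F.obj.map (sigmaDesc V' p).op t :=
      (bijective_sigmaObj hF V').1 (funext fun k => by
        change F.obj.map (sigmaIncl V' k).op (F.obj.map _ s) =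
          F.obj.map (sigmaIncl V' k).op (F.obj.map _ t)
        rw [← Functor.map_comp_apply, ← Functor.map_comp_apply, ← op_comp, sigmaIncl_desc, hp])
    rw [← hca, ← germAb_map, ← germAb_map, hst]
  · intro x
    choose V a s hs using fun k => exists_germAb f F (x k)
    obtain ⟨c, hc⟩ := (hyon ((ProEtS.bcP f).obj (sigmaObj V))).2
      fun k => a k ≫ (ProEtS.bcP f).map (sigmaIncl V k)
    obtain ⟨t, ht⟩ := (bijective_sigmaObj hF V).2 s
    refine ⟨germAb f F _ c t, funext fun k => ?_⟩
    have h1 : openHom (O k) ≫ c = a k ≫ (ProEtS.bcP f).map (sigmaIncl V k) := congrFun hc k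
    change (lanObjAb f F).map (openHom (O k)).op (germAb f F _ c t) = x k
    rw [map_germAb, h1, ← germAb_map, show F.obj.map (sigmaIncl V k).op t = s k from congrFun ht k, hs]

end

/-- A presheaf of abelian groups sending decompositions to products agrees with its sheafification
on objects with clopen refinements. -/
theorem toSheafifyAb_bijective (F : X.ProEtᵒᵖ ⥤ AddCommGrpCat.{u + 1})
    (W : X.ProEt) (h : HasClopenRefinements W)
    (hF : ∀ {n : ℕ} (O : Fin n → W.left.Opens),
      (Pairwise fun k l => Disjoint (O k : Set ↥W.left) (O l)) →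
      (⋃ k, (O k : Set ↥W.left)) = Set.univ →
      Function.Bijective fun (x : F.obj (op W)) (k : Fin n) => F.map (openHom (O k)).op x) :
    Function.Bijective ((toSheafify (Scheme.ProEt.topology X) F).app (op W)) := by
  let J := Scheme.ProEt.topology X
  constructor
  · intro a b hab
    obtain ⟨n, O, -, hdisj, hcov, hmem⟩ :=
      h _ (Presheaf.equalizerSieve_mem J (toSheafify J F) a b hab)
    exact (hF O hdisj hcov).1 (funext hmem)
  · intro s
    obtain ⟨n, O, -, hdisj, hcov, hmem⟩ :=
      h _ (Presheaf.imageSieve_mem J (toSheafify J F) s)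
    choose t ht using hmem
    obtain ⟨a, ha⟩ := (hF O hdisj hcov).2 t
    refine ⟨a, (bijective_of_decomposition
      ((isSheaf_iff_isSheaf_of_type _ _).1 ((sheafCompose J (forget AddCommGrpCat.{u + 1})).obj
        ((presheafToSheaf J AddCommGrpCat.{u + 1}).obj F)).property) O hdisj hcov).1
      (funext fun k => ?_)⟩
    change (sheafify J F).map _ ((toSheafify J F).app (op W) a) = (sheafify J F).map _ s
    rw [← NatTrans.naturality_apply (toSheafify J F),
      show F.map (openHom (O k)).op a = t k from congrFun ha k]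
    exact ht k

end Groth.EtaleDeep.ProEt
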