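import Groth.Agent.EtaleDeep.ProEt.ClosedLift
import Groth.Agent.EtaleDeep.ProEt.LanAb

/-!
# Inverse image along a closed immersion
-/

set_option autoImplicit false
set_option backward.isDefEq.respectTransparency.types false
set_option linter.style.haveILetI false

universe w u

open CategoryTheory CategoryTheory.Limits AlgebraicGeometry Opposite

namespace Groth.EtaleDeep.ProEt

variable {X Z : Scheme.{u}} (i : Z ⟶ X)

/-- Affine weakly contractible objects lying over an affine open of the base. -/
structure IsSmallWC (W : Z.ProEt) : Prop where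
  isAffine : IsAffine W.left
  isWC : EtPBC.IsWContractible Γ(W.left, ⊤)
  base : ∃ U : X.Opens, IsAffineOpen U ∧ Set.range (W.hom ≫ i) ⊆ (U : Set X)

/-- Every object is covered by small weakly contractible ones. -/
theorem exists_smallWC_family (T : Z.ProEt) :
    ∃ (ι : Type u) (V : ι → Z.ProEt) (g : ∀ k, V k ⟶ T),
      Sieve.generate (Presieve.ofArrows V g) ∈ Scheme.ProEt.topology Z T ∧
        ∀ k, IsSmallWC i (V k) := by
  let ι := {O : T.left.Opens //
    IsAffineOpen O ∧ ∃ U : X.Opens, IsAffineOpen U ∧ O ≤ (T.hom ≫ i) ⁻¹ᵁ U}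
  have hcov : TopologicalSpace.IsOpenCover (fun O : ι => O.1) := by
    refine TopologicalSpace.IsOpenCover.mk (eq_top_iff.2 fun x _ => ?_)
    obtain ⟨U, hU, hxU, -⟩ := TopologicalSpace.Opens.isBasis_iff_nbhd.1 X.isBasis_affineOpens
      (TopologicalSpace.Opens.mem_top ((T.hom ≫ i) x))
    obtain ⟨O, hO, hxO, hle⟩ := TopologicalSpace.Opens.isBasis_iff_nbhd.1 T.left.isBasis_affineOpens
      (show x ∈ (T.hom ≫ i) ⁻¹ᵁ U from hxU)
    exact TopologicalSpace.Opens.mem_iSup.2 ⟨⟨O, hO, U, hU, hle⟩, hxO⟩
  let 𝒰 : Scheme.OpenCover.{u} T.left :=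
    T.left.openCoverOfIsOpenCover (fun O : ι => O.1) hcov
  have : ∀ k, IsAffine (𝒰.X k) := fun k => k.2.1
  obtain ⟨V, g, h1, h2⟩ := exists_wContractible_family_range T 𝒰
  refine ⟨_, V, g, h1, fun k => ⟨(h2 k).1.1, (h2 k).1.2, ?_⟩⟩
  obtain ⟨U, hU, hle⟩ := k.2.2
  refine ⟨U, hU, ?_⟩
  rintro _ ⟨y, rfl⟩
  obtain ⟨z, hz⟩ := (h2 k).2 ⟨y, rfl⟩
  have h3 : (g k).left y ∈ (k.1 : Set T.left) := hz ▸ z.2
  rw [← MorphismProperty.Over.w (g k), Category.assoc]
  exact hle h3

/-- A morphism of sheaves bijective on small weakly contractible objects is an isomorphism. -/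
theorem isIso_of_bijective_smallWC {F G : ProEtS.AbP Z} (φ : F ⟶ G)
    (h : ∀ W : Z.ProEt, IsSmallWC i W → Function.Bijective (φ.hom.app (op W))) : IsIso φ := by
  have hF := (isSheaf_iff_isSheaf_of_type _ _).1
    ((sheafCompose (Scheme.ProEt.topology Z) (forget AddCommGrpCat.{u + 1})).obj F).property
  have hG := (isSheaf_iff_isSheaf_of_type _ _).1
    ((sheafCompose (Scheme.ProEt.topology Z) (forget AddCommGrpCat.{u + 1})).obj G).property
  suffices ∀ T, Function.Bijective (φ.hom.app (op T)) by
    have : ∀ T, IsIso (φ.hom.app T) := fun T =>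
      (ConcreteCategory.isIso_iff_bijective _).2 (this T.unop)
    have : IsIso ((sheafToPresheaf _ _).map φ) := NatIso.isIso_of_isIso_app φ.hom
    exact isIso_of_reflects_iso φ (sheafToPresheaf _ _)
  have hinj : ∀ T, Function.Injective (φ.hom.app (op T)) := fun T x y hxy => by
    obtain ⟨ι, V, g, hcov, hV⟩ := exists_smallWC_family i T
    refine (hF _ hcov).isSeparatedFor.ext ?_
    rintro Y q ⟨Y', a, b, ⟨k⟩, rfl⟩
    change F.obj.map (a ≫ g k).op x = F.obj.map (a ≫ g k).op y
    rw [op_comp, Functor.map_comp_apply, Functor.map_comp_apply]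
    refine congrArg _ ((h _ (hV k)).1 ?_)
    rw [NatTrans.naturality_apply φ.hom, NatTrans.naturality_apply φ.hom, hxy]
  intro T
  refine ⟨hinj T, fun s => ?_⟩
  obtain ⟨ι, V, g, hcov, hV⟩ := exists_smallWC_family i T
  choose t ht using fun k => (h _ (hV k)).2 (G.obj.map (g k).op s)
  have hs := (Presieve.isSheafFor_iff_generate _).2 (hF _ hcov)
  rw [Presieve.isSheafFor_arrows_iff] at hs
  obtain ⟨x, hx, -⟩ := hs t fun k l Y a b hab => hinj Y (by
    change φ.hom.app _ (F.obj.map a.op (t k)) = φ.hom.app _ (F.obj.map b.op (t l))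
    rw [NatTrans.naturality_apply φ.hom, NatTrans.naturality_apply φ.hom, ht, ht,
      ← Functor.map_comp_apply, ← Functor.map_comp_apply, ← op_comp, ← op_comp, hab])
  refine ⟨x, (hG _ hcov).isSeparatedFor.ext ?_⟩
  rintro Y q ⟨Y', a, b, ⟨k⟩, rfl⟩
  change G.obj.map (a ≫ g k).op (φ.hom.app _ x) = G.obj.map (a ≫ g k).op s
  rw [op_comp, Functor.map_comp_apply, Functor.map_comp_apply]
  refine congrArg _ ?_
  rw [← NatTrans.naturality_apply φ.hom, show F.obj.map (g k).op x = t k from hx k]
  exact ht k

/-- A chosen henselian lift of a small weakly contractible object. -/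
structure HenselLift (W : Z.ProEt) where
  /-- the object -/
  obj : X.ProEt
  /-- the comparison -/
  a : W ⟶ (ProEtS.bcP i).obj obj
  isIso : IsIso a
  isAffine : IsAffine obj.left
  exists_lift : ∀ (V : X.ProEt) (b : W ⟶ (ProEtS.bcP i).obj V),
    ∃ m : obj ⟶ V, a ≫ (ProEtS.bcP i).map m = b
  rigid : ∀ e : obj ⟶ obj, a ≫ (ProEtS.bcP i).map e = a → e = 𝟙 obj

/-- Small weakly contractible objects lift along `i`. -/
class HasHenselLifts : Prop where
  nonempty : ∀ {W : Z.ProEt}, IsSmallWC i W → Nonempty (HenselLift i W)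

instance [IsClosedImmersion i] : HasHenselLifts i where
  nonempty {W} hW := by
    have := hW.isAffine
    obtain ⟨U, hU, hWU⟩ := hW.base
    obtain ⟨Wt, a, h0, -, h1, h2, h3⟩ := exists_henselLift i hU W hW.isWC hWU
    exact ⟨⟨Wt, a, h1, h0, h2, h3⟩⟩

theorem nonempty_henselLift [HasHenselLifts i] {W : Z.ProEt} (hW : IsSmallWC i W) :
    Nonempty (HenselLift i W) :=
  HasHenselLifts.nonempty hW

variable [HasHenselLifts i] [ProEtS.PCont i]

/-- The comparison between sections over the lift and over `W`. -/
noncomputable def liftEval {W : Z.ProEt} (L : HenselLift i W) :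
    sheafToPresheaf (Scheme.ProEt.topology X) AddCommGrpCat.{u + 1} ⋙
        (evaluation _ _).obj (op L.obj) ⟶
      ProEtS.pullP i ⋙ sheafToPresheaf (Scheme.ProEt.topology Z) AddCommGrpCat.{u + 1} ⋙
        (evaluation _ _).obj (op W) where
  app F := ((ProEtS.pullPushAdjP i).unit.app F).hom.app (op L.obj) ≫
    ((ProEtS.pullP i).obj F).obj.map L.a.op
  naturality F G φ := by
    have h1 := congrArg (fun m => m.hom.app (op L.obj)) ((ProEtS.pullPushAdjP i).unit.naturality φ)
    change φ.hom.app (op L.obj) ≫ _ = (_ ≫ _) ≫ ((ProEtS.pullP i).map φ).hom.app (op W)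
    rw [Category.assoc]
    refine (Category.assoc _ _ _).symm.trans ((congrArg (· ≫ _) h1).trans ?_)
    refine (Category.assoc _ _ _).trans (congrArg (_ ≫ ·) ?_)
    exact (((ProEtS.pullP i).map φ).hom.naturality L.a.op).symm

theorem bijective_germAb (F : ProEtS.AbP X) {W : Z.ProEt} (L : HenselLift i W) :
    Function.Bijective (germAb i F L.obj L.a) := by
  constructor
  · intro s t hst
    obtain ⟨V', p, b, hb, hp⟩ := germAb_eq_germAb i F hst
    obtain ⟨m, hm⟩ := L.exists_lift V' b
    have he : m ≫ p = 𝟙 _ := L.rigid _ (by rw [Functor.map_comp, reassoc_of% hm, hb])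
    have h2 := congrArg (F.obj.map m.op) hp
    rwa [← Functor.map_comp_apply, ← Functor.map_comp_apply, ← op_comp, he, op_id,
      Functor.map_id_apply, Functor.map_id_apply] at h2
  · intro x
    obtain ⟨V, b, s, rfl⟩ := exists_germAb i F x
    obtain ⟨m, rfl⟩ := L.exists_lift V b
    exact ⟨F.obj.map m.op s, germAb_map i F m L.a s⟩

theorem bijective_liftEval {W : Z.ProEt} (hW : IsSmallWC i W) (L : HenselLift i W)
    (F : ProEtS.AbP X) : Function.Bijective ((liftEval i L).app F) := by
  have := hW.isAffine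
  let J := Scheme.ProEt.topology Z
  let adj₂ := Functor.sheafPullbackConstruction.sheafAdjunctionContinuous (ProEtS.bcP i)
    AddCommGrpCat.{u + 1} (Scheme.ProEt.topology X) J
  let e := ((ProEtS.pullPushAdjP i).leftAdjointUniq adj₂).app F
  let P := lanObjAb i F
  have hunit : (adj₂.unit.app F).hom =
      (ProEtS.bcP i).op.leftKanExtensionUnit F.obj ≫
        Functor.whiskerLeft (ProEtS.bcP i).op (toSheafify J P) := by
    have h := Adjunction.map_restrictFullyFaithful_unit_app
      (((ProEtS.bcP i).op.lanAdjunction AddCommGrpCat.{u + 1}).comp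
        (sheafificationAdjunction J AddCommGrpCat.{u + 1}))
      (fullyFaithfulSheafToPresheaf (Scheme.ProEt.topology X) AddCommGrpCat.{u + 1})
      (Functor.FullyFaithful.id _) (L := Functor.sheafPullbackConstruction.sheafPullback
        (ProEtS.bcP i) AddCommGrpCat.{u + 1} (Scheme.ProEt.topology X) J)
      (R := ProEtS.pushP i) (Iso.refl _) (Iso.refl _) F
    refine h.trans ?_
    simp [Adjunction.comp_unit_app]
    rfl
  have key : ∀ s, e.hom.hom.app (op W) ((liftEval i L).app F s) =
      (toSheafify J P).app (op W) (germAb i F L.obj L.a s) := by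
    intro s
    have h1 : (ProEtS.pullPushAdjP i).unit.app F ≫ (ProEtS.pushP i).map e.hom =
        adj₂.unit.app F := Adjunction.unit_leftAdjointUniq_hom_app _ _ F
    have h2 := congrArg (fun m => m.hom.app (op L.obj) s) h1
    change e.hom.hom.app (op W) (((ProEtS.pullP i).obj F).obj.map L.a.op
      (((ProEtS.pullPushAdjP i).unit.app F).hom.app (op L.obj) s)) = _
    rw [NatTrans.naturality_apply e.hom.hom, germAb, NatTrans.naturality_apply (toSheafify J P)]
    refine congrArg _ (h2.trans ?_)
    exact congrArg (fun m => m.app (op L.obj) s) hunit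
  have hb : Function.Bijective ((toSheafify J P).app (op W)) :=
    toSheafifyAb_bijective P W
      (refinements_of_hasSections (hasSections_of_isWContractible hW.isWC))
      fun O hd hc => bijective_lanAb_decomposition i F O hd hc
  have hcomp : Function.Bijective
      (fun s => e.hom.hom.app (op W) ((liftEval i L).app F s)) := by
    simp only [key]
    exact hb.comp (bijective_germAb i F L)
  have he : Function.Bijective (e.hom.hom.app (op W)) :=
    (ConcreteCategory.isIso_iff_bijective _).1
      (inferInstanceAs (IsIso (((sheafToPresheaf _ _).map e.hom).app (op W))))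
  exact ((he.of_comp_iff' ((liftEval i L).app F))).1 hcomp

/-- `i⁻¹` commutes with limits. -/
theorem pullP_preservesLimitsOfShape (J : Type w) [Category.{w} J]
    [HasLimitsOfShape J AddCommGrpCat.{u + 1}] :
    PreservesLimitsOfShape J (ProEtS.pullP i) := by
  refine ⟨fun {K} => ?_⟩
  have : IsIso (limit.post K (ProEtS.pullP i)) := isIso_of_bijective_smallWC i _ fun W hW => by
    obtain ⟨L⟩ := nonempty_henselLift i hW
    have : IsIso (liftEval i L) := by
      have : ∀ F, IsIso ((liftEval i L).app F) := fun F =>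
        (ConcreteCategory.isIso_iff_bijective _).2 (bijective_liftEval i hW L F)
      exact NatIso.isIso_of_isIso_app _
    let E := sheafToPresheaf (Scheme.ProEt.topology Z) AddCommGrpCat.{u + 1} ⋙
      (evaluation _ _).obj (op W)
    have : PreservesLimitsOfShape J (ProEtS.pullP i ⋙ E) :=
      preservesLimitsOfShape_of_natIso (asIso (liftEval i L))
    have h : limit.post K (ProEtS.pullP i ⋙ E) =
        E.map (limit.post K (ProEtS.pullP i)) ≫ limit.post (K ⋙ ProEtS.pullP i) E :=
      (limit.post_post K (ProEtS.pullP i) E).symm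
    have : IsIso (E.map (limit.post K (ProEtS.pullP i))) := by
      have : IsIso (E.map (limit.post K (ProEtS.pullP i)) ≫ limit.post (K ⋙ ProEtS.pullP i) E) := by
        rw [← h]; infer_instance
      exact IsIso.of_isIso_comp_right _ (limit.post (K ⋙ ProEtS.pullP i) E)
    exact (ConcreteCategory.isIso_iff_bijective _).1 this
  exact preservesLimit_of_isIso_post (ProEtS.pullP i) K

/-- The counit `i⁻¹ i_* F → F` is an isomorphism. -/
theorem isIso_counit (F : ProEtS.AbP Z) : IsIso ((ProEtS.pullPushAdjP i).counit.app F) := by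
  refine isIso_of_bijective_smallWC i _ fun W hW => ?_
  obtain ⟨L⟩ := nonempty_henselLift i hW
  have := L.isIso
  have h1 := (bijective_liftEval i hW L ((ProEtS.pushP i).obj F))
  have key : ∀ s, ((ProEtS.pullPushAdjP i).counit.app F).hom.app (op W)
      ((liftEval i L).app ((ProEtS.pushP i).obj F) s) = F.obj.map L.a.op s := by
    intro s
    refine (NatTrans.naturality_apply ((ProEtS.pullPushAdjP i).counit.app F).hom L.a.op _).trans ?_
    refine congrArg (F.obj.map L.a.op) ?_
    exact congrArg (fun m => m.hom.app (op L.obj) s)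
      ((ProEtS.pullPushAdjP i).right_triangle_components F)
  have h2 : Function.Bijective (F.obj.map L.a.op) :=
    (ConcreteCategory.isIso_iff_bijective _).1 inferInstance
  have h3 : Function.Bijective (fun s => ((ProEtS.pullPushAdjP i).counit.app F).hom.app (op W)
      ((liftEval i L).app ((ProEtS.pushP i).obj F) s)) := by
    simp only [key]; exact h2
  exact (Function.Bijective.of_comp_iff _ h1).1 h3

end Groth.EtaleDeep.ProEt
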