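import Groth.Agent.EtaleDeep.ProEt.Objects
import Groth.Agent.SitesTopoi.Deligne.Main
import Mathlib.CategoryTheory.Sites.Point.Map
import Mathlib.CategoryTheory.Limits.Constructions.Over.Connected
import Mathlib.CategoryTheory.Limits.Constructions.LimitsOfProductsAndEqualizers

/-!
# The small pro-etale site has enough points
-/

set_option autoImplicit false
set_option backward.isDefEq.respectTransparency.types false
set_option linter.style.haveILetI false

universe u

open CategoryTheory CategoryTheory.Limits AlgebraicGeometry Opposite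

namespace Groth.EtaleDeep.ProEt

variable {S : Scheme.{u}}

/-- A finite jointly surjective family of affine objects covers. -/
theorem finite_affine_mem_topology {n : ℕ} {U : S.ProEt} [IsAffine U.left] (V : Fin n → S.ProEt)
    (g : ∀ i, V i ⟶ U) (hV : ∀ i, IsAffine (V i).left)
    (hcov : ∀ x : U.left, ∃ i, x ∈ Set.range (g i).left) :
    Sieve.generate (Presieve.ofArrows V g) ∈ Scheme.ProEt.topology S U := by
  let J := Scheme.ProEt.topology S
  have : IsAffine (sigmaObj V).left := inferInstanceAs (IsAffine (∐ fun i => (V i).left))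
  have : Surjective (sigmaDesc V g).left := ⟨fun x => by
    obtain ⟨i, y, rfl⟩ := hcov x
    refine ⟨Sigma.ι (fun i => (V i).left) i y, ?_⟩
    exact congrArg (fun m => m y) (Sigma.ι_desc (fun i => (g i).left) i)⟩
  have hincl : ∀ i, IsOpenImmersion (sigmaIncl V i).left := fun i =>
    inferInstanceAs (IsOpenImmersion (Sigma.ι (fun i => (V i).left) i))
  refine J.transitive (singleton_mem_topology (sigmaDesc V g)) _ fun Z q hq => ?_
  obtain ⟨Z', a, b, ⟨⟩, rfl⟩ := hq
  rw [Sieve.pullback_comp]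
  refine J.pullback_stable a (J.superset_covering ?_
    (openImmersions_mem_topology V (sigmaIncl V) fun x => ?_))
  · rintro Y q ⟨Z', c, d, ⟨i⟩, rfl⟩
    exact ⟨V i, c, _, Presieve.ofArrows.mk i,
      (congrArg (c ≫ ·) (sigmaIncl_desc V g i).symm).trans (Category.assoc _ _ _).symm⟩
  · obtain ⟨y, hy⟩ := (sigmaOpenCover (fun i => (V i).left)).covers x
    exact ⟨_, y, hy⟩

variable (X₀ : S.ProEt)

/-- Affine objects over `X₀`. -/
abbrev affineOver : ObjectProperty (Over X₀) := fun W => IsAffine W.left.left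

instance : (affineOver X₀).IsClosedUnderLimitsOfShape WalkingCospan where
  limitsOfShape_le := by
    rintro W ⟨p⟩
    let F := Over.forget X₀ ⋙ Scheme.ProEt.forget S ⋙ Over.forget S
    have : IsAffine ((p.diag ⋙ F).obj WalkingCospan.left) := p.prop_diag_obj _
    have : IsAffine ((p.diag ⋙ F).obj WalkingCospan.right) := p.prop_diag_obj _
    have : IsAffine ((p.diag ⋙ F).obj WalkingCospan.one) := p.prop_diag_obj _
    let e : W.left.left ≅ pullback ((p.diag ⋙ F).map WalkingCospan.Hom.inl)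
        ((p.diag ⋙ F).map WalkingCospan.Hom.inr) :=
      IsLimit.conePointUniqueUpToIso (isLimitOfPreserves F p.isLimit) (limit.isLimit _) ≪≫
        HasLimit.isoOfNatIso (diagramIsoCospan (p.diag ⋙ F))
    exact IsAffine.of_isIso e.hom

/-- The site of affine objects over `X₀`, as a small category. -/
abbrev AffSite : Type (u + 1) := AsSmall.{u + 1} (affineOver X₀).FullSubcategory

/-- The inclusion. -/
abbrev affIncl : AffSite X₀ ⥤ Over X₀ := AsSmall.down ⋙ (affineOver X₀).ι

instance : (AsSmall.down : AffSite X₀ ⥤ (affineOver X₀).FullSubcategory).IsEquivalence :=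
  inferInstanceAs (AsSmall.equiv.inverse.IsEquivalence)

theorem hasFiniteLimits_affSite [IsAffine X₀.left] : HasFiniteLimits (AffSite X₀) := by
  let P := affineOver X₀
  let T : P.FullSubcategory := ⟨Over.mk (𝟙 X₀), ‹IsAffine X₀.left›⟩
  have : HasTerminal P.FullSubcategory := IsTerminal.hasTerminal
    (IsTerminal.ofUniqueHom (fun W => (⟨Over.homMk W.obj.hom (Category.comp_id _)⟩ : W ⟶ T))
      fun W m => InducedCategory.hom_ext (Over.OverMorphism.ext
        ((Category.comp_id _).symm.trans (Over.w m.hom))))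
  have : HasPullbacks P.FullSubcategory := inferInstanceAs (HasLimitsOfShape WalkingCospan _)
  have : HasFiniteLimits P.FullSubcategory := hasFiniteLimits_of_hasTerminal_and_pullbacks
  constructor
  intro J _ _
  exact Adjunction.hasLimitsOfShape_of_equivalence
    (AsSmall.down : AffSite X₀ ⥤ P.FullSubcategory)

instance : (affIncl X₀).IsCoverDense ((Scheme.ProEt.topology S).over X₀) where
  is_cover W := by
    rw [GrothendieckTopology.mem_over_iff]
    let U := W.left
    let 𝒰 := U.left.affineCover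
    have : ∀ j, WeaklyEtale (𝒰.f j ≫ U.hom) := fun j =>
      MorphismProperty.comp_mem _ _ _ (inferInstanceAs (WeaklyEtale (𝒰.f j))) U.prop
    let V : 𝒰.I₀ → S.ProEt := fun j => Scheme.ProEt.mk (𝒰.f j ≫ U.hom)
    let v : ∀ j, V j ⟶ U := fun j => MorphismProperty.Over.homMk (𝒰.f j)
    have : ∀ j, IsOpenImmersion (v j).left := fun j =>
      inferInstanceAs (IsOpenImmersion (𝒰.f j))
    refine (Scheme.ProEt.topology S).superset_covering ?_
      (openImmersions_mem_topology V v fun x => ⟨𝒰.idx x, 𝒰.covers x⟩)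
    rw [Sieve.generate_le_iff, Presieve.ofArrows_le_iff]
    intro j
    refine (Sieve.overEquiv_iff _ _).2 ?_
    exact ⟨⟨⟨⟨Over.mk (v j ≫ W.hom), inferInstanceAs (IsAffine (𝒰.X j))⟩⟩, 𝟙 _,
      Over.homMk (v j) rfl, Category.id_comp _⟩⟩

/-- The topology on affine objects over `X₀`. -/
abbrev affTop : GrothendieckTopology (AffSite X₀) :=
  (affIncl X₀).restrictedTopology ((Scheme.ProEt.topology S).over X₀)

theorem finite_subcover (W : AffSite X₀) (R : Sieve W) (hR : R ∈ affTop X₀ W) :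
    ∃ (n : ℕ) (V : Fin n → AffSite X₀) (g : ∀ k, V k ⟶ W), (∀ k, R (g k)) ∧
      Sieve.ofArrows V g ∈ affTop X₀ W := by
  rw [Functor.mem_restrictedTopology_iff, GrothendieckTopology.mem_over_iff] at hR
  have hW : IsAffine (AsSmall.down.obj W).obj.left.left := (AsSmall.down.obj W).property
  have : CompactSpace ↥((affIncl X₀).obj W).left.left := inferInstanceAs (CompactSpace ↥(AsSmall.down.obj W).obj.left.left)
  obtain ⟨n, V, g, hV, hcov, hmem⟩ := exists_affine_refinement hR
  let V' : Fin n → AffSite X₀ := fun k => ⟨⟨Over.mk (g k ≫ (AsSmall.down.obj W).obj.hom), hV k⟩⟩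
  let g' : ∀ k, V' k ⟶ W := fun k => ⟨⟨Over.homMk (g k) rfl⟩⟩
  refine ⟨n, V', g', fun k => ?_, ?_⟩
  · rw [← Sieve.functorPullback_functorPushforward_eq (affIncl X₀) (S := R)]
    exact (Sieve.overEquiv_iff _ _).1 (hmem k)
  · rw [Functor.mem_restrictedTopology_iff, GrothendieckTopology.mem_over_iff]
    have : IsAffine ((affIncl X₀).obj W).left.left := hW
    refine (Scheme.ProEt.topology S).superset_covering ?_
      (finite_affine_mem_topology V g hV hcov)
    rw [Sieve.generate_le_iff, Presieve.ofArrows_le_iff]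
    intro k
    refine (Sieve.overEquiv_iff _ _).2 ?_
    exact ⟨V' k, g' k, 𝟙 _, Sieve.ofArrows_mk V' g' k, (Category.id_comp _).symm⟩

open GrothendieckTopology in
/-- A point avoiding a non covering sieve of an affine object. -/
theorem exists_point_avoiding_affine [IsAffine X₀.left] (R : Sieve X₀)
    (hR : R ∉ Scheme.ProEt.topology S X₀) :
    ∃ (Φ : Point.{u + 1} (Scheme.ProEt.topology S)) (x : Φ.fiber.obj X₀),
      ∀ (Y : S.ProEt) (g : Y ⟶ X₀), R g → ∀ y : Φ.fiber.obj Y, Φ.fiber.map g y ≠ x := by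
  have := hasFiniteLimits_affSite X₀
  let J := Scheme.ProEt.topology S
  let G := affIncl X₀ ⋙ Over.forget X₀
  have : G.IsCocontinuous (affTop X₀) J :=
    isCocontinuous_comp (affIncl X₀) (Over.forget X₀) (affTop X₀) (J.over X₀)
  let T₀ : AffSite X₀ := ⟨⟨Over.mk (𝟙 X₀), ‹IsAffine X₀.left›⟩⟩
  let R' : Sieve T₀ := Sieve.functorPullback G (X := T₀) R
  have hR' : R' ∉ affTop X₀ T₀ := fun h => by
    rw [Functor.mem_restrictedTopology_iff, GrothendieckTopology.mem_over_iff] at h
    refine hR (J.superset_covering ?_ h)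
    intro Y q hq
    obtain ⟨Z, a, b, ha, hb⟩ := (Sieve.overEquiv_iff (Y := Over.mk (𝟙 X₀)) _ q).1 hq
    have hb' : q = b.left ≫ G.map a := congrArg (fun m => m.left) hb
    exact hb' ▸ R.downward_closed ha b.left
  obtain ⟨Φ, x, hx⟩ := Groth.SitesTopoi.Deligne.exists_point_avoiding (finite_subcover X₀) hR'
  let u₀ : Φ.fiber.Elements := Functor.elementsMk Φ.fiber T₀ x
  refine ⟨Φ.map G J, Point.ofIsCofiltered.fiberMk.{u + 1}
    (p := CategoryOfElements.π Φ.fiber ⋙ G) (U := u₀) (𝟙 X₀), fun Y g hg y hy => ?_⟩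
  obtain ⟨U, a, rfl⟩ := Point.ofIsCofiltered.fiberMk_jointly_surjective y
  change (Point.ofIsCofiltered.fiber.{u + 1} _).map g _ = _ at hy
  rw [Point.ofIsCofiltered.fiber_map_fiberMk] at hy
  let V := IsCofiltered.min U u₀
  let q : V ⟶ U := IsCofiltered.minToLeft U u₀
  let q₀ : V ⟶ u₀ := IsCofiltered.minToRight U u₀
  let p := CategoryOfElements.π Φ.fiber ⋙ G
  have h1 : Point.ofIsCofiltered.fiberMk.{u + 1} (p.map q ≫ a ≫ g) =
      Point.ofIsCofiltered.fiberMk.{u + 1} (p := p) (p.map q₀ ≫ 𝟙 X₀) :=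
    (Point.ofIsCofiltered.fiberMk_map_comp.{u + 1} p q (a ≫ g)).trans
      (hy.trans (Point.ofIsCofiltered.fiberMk_map_comp.{u + 1} p q₀ (𝟙 X₀)).symm)
  obtain ⟨V', r, hr⟩ := Point.ofIsCofiltered.exists_of_fiberMk_eq_fiberMk h1
  refine hx _ (r ≫ q₀).1 ?_ V'.2 (r ≫ q₀).2
  change R.arrows (p.map (r ≫ q₀))
  have h2 : p.map (r ≫ q₀) = (p.map r ≫ p.map q ≫ a) ≫ g := by
    rw [p.map_comp, Category.assoc, Category.assoc]
    exact ((congrArg (p.map r ≫ ·) (Category.comp_id _)).symm.trans hr.symm)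
  exact h2 ▸ R.downward_closed hg _

/-- The small pro-etale site has enough points. -/
theorem hasEnoughPoints (S : Scheme.{u}) :
    GrothendieckTopology.HasEnoughPoints.{u + 1} (Scheme.ProEt.topology S) := by
  classical
  let J := Scheme.ProEt.topology S
  choose Φ x hΦ using fun p : (Σ X : S.ProEt, {R : Sieve X // IsAffine X.left ∧ R ∉ J X}) =>
    have := p.2.2.1
    exists_point_avoiding_affine p.1 p.2.1 p.2.2.2
  refine ⟨ObjectProperty.ofObj Φ, inferInstance, .mk' fun X R hR => ?_⟩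
  let 𝒰 := X.left.affineCover
  have : ∀ j, WeaklyEtale (𝒰.f j ≫ X.hom) := fun j =>
    MorphismProperty.comp_mem _ _ _ (inferInstanceAs (WeaklyEtale (𝒰.f j))) X.prop
  let V : 𝒰.I₀ → S.ProEt := fun j => Scheme.ProEt.mk (𝒰.f j ≫ X.hom)
  let v : ∀ j, V j ⟶ X := fun j => MorphismProperty.Over.homMk (𝒰.f j)
  have : ∀ j, IsOpenImmersion (v j).left := fun j => inferInstanceAs (IsOpenImmersion (𝒰.f j))
  refine J.transitive (openImmersions_mem_topology V v fun x => ⟨𝒰.idx x, 𝒰.covers x⟩) R ?_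
  rintro Z q ⟨Z', a, b, ⟨j⟩, rfl⟩
  rw [Sieve.pullback_comp]
  refine J.pullback_stable a ?_
  by_contra hj
  let p : Σ X : S.ProEt, {R : Sieve X // IsAffine X.left ∧ R ∉ J X} :=
    ⟨V j, R.pullback (v j), inferInstanceAs (IsAffine (𝒰.X j)), hj⟩
  obtain ⟨Y, g, hg, y, hy⟩ :=
    hR ⟨Φ p, ObjectProperty.ofObj_apply Φ p⟩ ((Φ p).fiber.map (v j) (x p))
  -- refine to a common element
  let a₁ : (Φ p).fiber.Elements := Functor.elementsMk _ Y y
  let a₂ : (Φ p).fiber.Elements := Functor.elementsMk _ (V j) (x p)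
  let a₃ : (Φ p).fiber.Elements := Functor.elementsMk _ X ((Φ p).fiber.map (v j) (x p))
  let f₁ : a₁ ⟶ a₃ := CategoryOfElements.homMk _ _ g hy
  let f₂ : a₂ ⟶ a₃ := CategoryOfElements.homMk _ _ (v j) rfl
  obtain ⟨c, c₁, c₂, hc⟩ := IsCofiltered.cospan f₁ f₂
  refine hΦ p c.1 c₂.1 ?_ c.2 c₂.2
  change R.arrows (c₂.1 ≫ v j)
  rw [show c₂.1 ≫ v j = c₁.1 ≫ g from (congrArg Subtype.val hc).symm]
  exact R.downward_closed hg _

end Groth.EtaleDeep.ProEt
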