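import Groth.Agent.EtaleDeep.ProEt.Basic
import Groth.Agent.EtaleAlgebra.WeaklyEtaleField

/-!
# Geometric points and coverings
-/

set_option autoImplicit false
set_option backward.isDefEq.respectTransparency.types false
set_option linter.style.haveILetI false

universe u

open CategoryTheory CategoryTheory.Limits AlgebraicGeometry Opposite

namespace Groth.EtaleDeep.ProEt

/-- A weakly etale affine scheme over a separably closed field has a rational point if nonempty. -/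
theorem exists_section_of_weaklyEtale {k : Type u} [Field k] [IsSepClosed k] {P : Scheme.{u}}
    [IsAffine P] [Nonempty P] (p : P ⟶ Spec (CommRingCat.of k)) [WeaklyEtale p] :
    ∃ s : Spec (CommRingCat.of k) ⟶ P, s ≫ p = 𝟙 _ := by
  obtain ⟨φ, hφ⟩ : ∃ φ : CommRingCat.of k ⟶ Γ(P, ⊤), Spec.map φ = P.isoSpec.inv ≫ p :=
    ⟨Spec.preimage _, Spec.map_preimage _⟩
  letI : Algebra k Γ(P, ⊤) := φ.hom.toAlgebra
  have hwe : WeaklyEtale (Spec.map φ) := by rw [hφ]; infer_instance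
  have : Algebra.WeaklyEtale k Γ(P, ⊤) :=
    FlatMor2.isWeaklyEtaleHom_iff.1 ((FlatMor2.weaklyEtale_SpecMap_iff φ).1 hwe)
  have : Nontrivial Γ(P, ⊤) := by
    have : Nonempty (Spec Γ(P, ⊤)) := Nonempty.map P.isoSpec.hom.base ‹_›
    exact PrimeSpectrum.nonempty_iff_nontrivial.1 this
  obtain ⟨m, hm⟩ := Ideal.exists_maximal Γ(P, ⊤)
  letI : Field (Γ(P, ⊤) ⧸ m) := Ideal.Quotient.field m
  have : Algebra.WeaklyEtale k (Γ(P, ⊤) ⧸ m) :=
    EtaleAlgebra.weaklyEtale_of_surjective (Ideal.Quotient.mkₐ k m) Ideal.Quotient.mk_surjective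
  have : Algebra.IsSeparable k (Γ(P, ⊤) ⧸ m) :=
    ⟨fun y => EtaleAlgebra.isSeparable_of_weaklyEtale _ y⟩
  obtain ⟨e⟩ : Nonempty ((Γ(P, ⊤) ⧸ m) ≃ₐ[k] k) :=
    ⟨(AlgEquiv.ofBijective (Algebra.ofId k (Γ(P, ⊤) ⧸ m))
      ⟨RingHom.injective _, IsSepClosed.algebraMap_surjective k _⟩).symm⟩
  let ψ : Γ(P, ⊤) ⟶ CommRingCat.of k :=
    CommRingCat.ofHom ((e.toRingEquiv.toRingHom).comp (Ideal.Quotient.mk m))
  have hψ : φ ≫ ψ = 𝟙 _ := CommRingCat.hom_ext (RingHom.ext fun a => e.commutes a)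
  refine ⟨Spec.map ψ ≫ P.isoSpec.inv, ?_⟩
  rw [Category.assoc, ← hφ, ← Spec.map_comp, hψ, Spec.map_id]

variable {X : Scheme.{u}}

theorem exists_geometric_lift (U : X.ProEt) (R : Sieve U) (hR : R ∈ Scheme.ProEt.topology X U)
    {k : Type u} [Field k] [IsSepClosed k] (ξ : Spec (CommRingCat.of k) ⟶ U.left) :
    ∃ (V : X.ProEt) (g : V ⟶ U) (ξ' : Spec (CommRingCat.of k) ⟶ V.left),
      R g ∧ ξ' ≫ g.left = ξ := by
  let x := ξ (default : Spec (CommRingCat.of k))
  obtain ⟨W', hW, hx, -⟩ := TopologicalSpace.Opens.isBasis_iff_nbhd.1 U.left.isBasis_affineOpens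
    (TopologicalSpace.Opens.mem_top x)
  let W : U.left.Opens := W'
  have : IsAffine (Scheme.ProEt.mk (W.ι ≫ U.hom)).left := hW
  have hsub : Set.range ξ ⊆ Set.range W.ι := by
    rintro _ ⟨z, rfl⟩
    rw [Scheme.Opens.range_ι, Subsingleton.elim z default]
    exact hx
  let ξW' : Spec (CommRingCat.of k) ⟶ W.toScheme := IsOpenImmersion.lift W.ι ξ hsub
  let ξW : Spec (CommRingCat.of k) ⟶ (Scheme.ProEt.mk (W.ι ≫ U.hom)).left := ξW'
  have hξW : ξW ≫ (openHom W).left = ξ := IsOpenImmersion.lift_fac W.ι ξ hsub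
  obtain ⟨n, V, g, hV, hcov, hmem⟩ := exists_affine_refinement
    ((Scheme.ProEt.topology X).pullback_stable (openHom W) hR)
  obtain ⟨i, y, hy⟩ := hcov (ξW default)
  have := weaklyEtale_left (g i)
  have := hV i
  let P := pullback (g i).left ξW
  have : Nonempty P := by
    obtain ⟨z, -, -⟩ := Scheme.Pullback.exists_preimage_pullback y default hy
    exact ⟨z⟩
  obtain ⟨s, hs⟩ := exists_section_of_weaklyEtale (pullback.snd (g i).left ξW)
  refine ⟨V i, g i ≫ openHom W, s ≫ pullback.fst _ _, hmem i, ?_⟩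
  calc (s ≫ pullback.fst (g i).left ξW) ≫ (g i).left ≫ (openHom W).left
      = s ≫ (pullback.fst (g i).left ξW ≫ (g i).left) ≫ (openHom W).left := by simp only [Category.assoc]
    _ = ξ := by rw [pullback.condition, Category.assoc, reassoc_of% hs, hξW]

end Groth.EtaleDeep.ProEt
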