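import Groth.Agent.EtaleDeep.ProEt.ClosedPullback
import Groth.Agent.EtaleDeep.IndEt.UnivHomeoLift

/-!
# Lifts of weakly contractible objects along universal homeomorphisms
-/

set_option autoImplicit false
set_option backward.isDefEq.respectTransparency.types false
set_option linter.style.haveILetI false

universe u

open CategoryTheory CategoryTheory.Limits AlgebraicGeometry Opposite TensorProduct

namespace Groth.EtaleDeep.ProEt

variable {X Z : Scheme.{u}}

/-- Affine integral universally injective surjective morphisms give homeomorphic extensions. -/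
theorem isHomeoExt_of_scheme {A : CommRingCat.{u}} {P : Scheme.{u}} [IsAffine P]
    (cl : P ⟶ Spec A) [IsIntegralHom cl] [UniversallyInjective cl] [Surjective cl]
    (f : A ⟶ Γ(P, ⊤)) (hf : Spec.map f = P.isoSpec.inv ≫ cl) :
    letI := f.hom.toAlgebra
    IndEt.IsHomeoExt A Γ(P, ⊤) := by
  letI := f.hom.toAlgebra
  have : UniversallyInjective (Spec.map f) := by
    rw [hf]; exact MorphismProperty.comp_mem _ _ _ inferInstance inferInstance
  have : IsIntegralHom (Spec.map f) := by rw [hf]; infer_instance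
  have : Surjective (Spec.map f) := by rw [hf]; infer_instance
  have hint : f.hom.IsIntegral := IsIntegralHom.SpecMap_iff.1 inferInstance
  have : Algebra.IsIntegral A Γ(P, ⊤) := algebraMap_isIntegral_iff.1 hint
  refine ⟨this, fun Ω _ _ _ => ⟨?_, ⟨fun φ ψ => ?_⟩⟩⟩
  · obtain ⟨q, hq⟩ := (Spec.map f).surjective ⟨RingHom.ker (algebraMap A Ω), RingHom.ker_isPrime _⟩
    obtain ⟨χ, -⟩ := IndEt.exists_point (R := A) (Ω := Ω) q.asIdeal
      (congrArg PrimeSpectrum.asIdeal hq)
    exact ⟨χ⟩
  · have h : Function.Injective (fun g : Spec (CommRingCat.of Ω) ⟶ Spec Γ(P, ⊤) => g ≫ Spec.map f) :=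
      (show UniversallyInjective (Spec.map f) ↔ ∀ (K : Type u) [Field K],
        Function.Injective (fun g : Spec (CommRingCat.of K) ⟶ Spec Γ(P, ⊤) => g ≫ Spec.map f) from
        (tfae_universallyInjective (f := Spec.map f)).out 0 1).1 ‹_› Ω
    have h1 : f ≫ CommRingCat.ofHom φ.toRingHom = f ≫ CommRingCat.ofHom ψ.toRingHom :=
      CommRingCat.hom_ext (RingHom.ext fun a => (φ.commutes a).trans (ψ.commutes a).symm)
    have h2 : Spec.map (CommRingCat.ofHom φ.toRingHom) = Spec.map (CommRingCat.ofHom ψ.toRingHom) :=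
      h (by
        change Spec.map _ ≫ Spec.map f = Spec.map _ ≫ Spec.map f
        rw [← Spec.map_comp, ← Spec.map_comp, h1])
    exact AlgHom.ext fun x => congrArg (fun m => m.hom x) (Spec.map_injective h2)

/-- A square of rings given by a bijective comparison is a pushout. -/
theorem isPushout_of_bijective {A C : CommRingCat.{u}} {B D : Type u} [CommRing B] [CommRing D]
    [Algebra A B] [Algebra A C] [Algebra A D] [Algebra B D] [IsScalarTower A B D]
    (φ : (C : Type u) →ₐ[A] D) (h : Function.Bijective (IndEt.fromBc B φ)) :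
    IsPushout (CommRingCat.ofHom (algebraMap A C)) (CommRingCat.ofHom (algebraMap A B))
      (CommRingCat.ofHom φ.toRingHom) (CommRingCat.ofHom (algebraMap B D)) := by
  refine (CommRingCat.isPushout_tensorProduct A B C).flip.of_iso (Iso.refl _) (Iso.refl _)
    (Iso.refl _) (AlgEquiv.ofBijective (IndEt.fromBc B φ) h).toRingEquiv.toCommRingCatIso ?_ ?_ ?_ ?_
  · rfl
  · rfl
  · ext x
    change IndEt.fromBc B φ ((1 : B) ⊗ₜ x) = φ x
    simp [IndEt.fromBc]
  · ext x
    change IndEt.fromBc B φ (x ⊗ₜ (1 : C)) = algebraMap B D x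
    simp [IndEt.fromBc]

variable (i : Z ⟶ X) [IsIntegralHom i] [UniversallyInjective i] [Surjective i]

/-- The lift of a weakly contractible affine object along a universal homeomorphism. -/
theorem exists_henselLift_homeo {U : X.Opens} (hU : IsAffineOpen U) (W : Z.ProEt)
    [IsAffine W.left]
    (hW : EtPBC.IsWContractible Γ(W.left, ⊤)) (hWU : Set.range (W.hom ≫ i) ⊆ (U : Set X)) :
    Nonempty (HenselLift i W) := by
  let j := hU.fromSpec
  have hrj : Set.range j = (U : Set X) := hU.range_fromSpec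
  let h₀ : W.left ⟶ Spec Γ(X, U) := IsOpenImmersion.lift j (W.hom ≫ i) (hrj.symm ▸ hWU)
  have hh₀ : h₀ ≫ j = W.hom ≫ i := IsOpenImmersion.lift_fac _ _ _
  let P := pullback j i
  let cl : P ⟶ Spec Γ(X, U) := pullback.fst j i
  have : IsIntegralHom cl := MorphismProperty.pullback_fst j i inferInstance
  have : UniversallyInjective cl := MorphismProperty.pullback_fst j i inferInstance
  have : Surjective cl := MorphismProperty.pullback_fst j i inferInstance
  have : IsAffine P := isAffine_of_isAffineHom cl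
  let h : W.left ⟶ P := pullback.lift h₀ W.hom hh₀
  have : WeaklyEtale h := by
    have : WeaklyEtale (h ≫ pullback.snd j i) := by rw [pullback.lift_snd]; exact W.prop
    exact WeaklyEtale.of_comp h (pullback.snd j i)
  let f : Γ(X, U) ⟶ Γ(P, ⊤) := (Scheme.ΓSpecIso Γ(X, U)).inv ≫ cl.appTop
  have hf : Spec.map f = P.isoSpec.inv ≫ cl := by
    rw [Spec.map_comp, ← Scheme.isoSpec_Spec_inv, Scheme.isoSpec_inv_naturality]
  obtain ⟨g, hg⟩ : ∃ g : Γ(P, ⊤) ⟶ Γ(W.left, ⊤),
      Spec.map g = W.left.isoSpec.inv ≫ h ≫ P.isoSpec.hom :=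
    ⟨Spec.preimage _, Spec.map_preimage _⟩
  have hθ : Spec.map (f ≫ g) = W.left.isoSpec.inv ≫ h₀ := by
    rw [Spec.map_comp, hf, hg]
    simp only [Category.assoc, Iso.hom_inv_id_assoc]
    rw [pullback.lift_fst]
  have hgwe : WeaklyEtale (Spec.map g) := by rw [hg]; infer_instance
  letI : Algebra Γ(X, U) Γ(P, ⊤) := f.hom.toAlgebra
  letI : Algebra Γ(P, ⊤) Γ(W.left, ⊤) := g.hom.toAlgebra
  letI : Algebra Γ(X, U) Γ(W.left, ⊤) := (f ≫ g).hom.toAlgebra
  have : IsScalarTower Γ(X, U) Γ(P, ⊤) Γ(W.left, ⊤) :=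
    IsScalarTower.of_algebraMap_eq fun x => rfl
  have : Algebra.WeaklyEtale Γ(P, ⊤) Γ(W.left, ⊤) :=
    FlatMor2.isWeaklyEtaleHom_iff.1 ((FlatMor2.weaklyEtale_SpecMap_iff g).1 hgwe)
  obtain ⟨C, _, _, _, _, hind, hC, hbij, hL, hendo⟩ :=
    (isHomeoExt_of_scheme cl f hf).exists_wContractible_lift Γ(W.left, ⊤) hW
  let α : Γ(X, U) ⟶ CommRingCat.of C := CommRingCat.ofHom (algebraMap Γ(X, U) C)
  let π : CommRingCat.of C ⟶ Γ(W.left, ⊤) := CommRingCat.ofHom (algebraMap C Γ(W.left, ⊤))
  have hαπ : f ≫ g = α ≫ π := CommRingCat.hom_ext (RingHom.ext fun x =>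
    IsScalarTower.algebraMap_apply Γ(X, U) C Γ(W.left, ⊤) x)
  have hαwe : WeaklyEtale (Spec.map α) := (FlatMor2.weaklyEtale_SpecMap_iff α).2
    (FlatMor2.isWeaklyEtaleHom_iff.2 (IndEt.weaklyEtale hind))
  let βa : W.left ⟶ Spec (CommRingCat.of C) := W.left.isoSpec.hom ≫ Spec.map π
  have hβa : βa ≫ Spec.map α = h₀ := by
    simp only [βa, Category.assoc]
    rw [← Spec.map_comp, ← hαπ, hθ, Iso.hom_inv_id_assoc]
  have hw : βa ≫ Spec.map α ≫ j = W.hom ≫ i := by rw [reassoc_of% hβa, hh₀]
  refine ⟨⟨Scheme.ProEt.mk (Spec.map α ≫ j), mkBc i βa hw, ?_,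
    inferInstanceAs (IsAffine (Spec (CommRingCat.of C))), ?_, ?_⟩⟩
  · have hP : IsPullback cl (pullback.snd j i) j i := IsPullback.of_hasPullback j i
    have hpo : IsPushout α f π g :=
      isPushout_of_bijective (C := CommRingCat.of C) (IsScalarTower.toAlgHom Γ(X, U) C Γ(W.left, ⊤)) hbij
    have h1 := isPullback_SpecMap_of_isPushout _ _ _ _ hpo
    have h2 : IsPullback βa h (Spec.map α) cl := by
      refine h1.of_iso W.left.isoSpec.symm (Iso.refl _) P.isoSpec.symm (Iso.refl _) ?_ ?_ ?_ ?_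
      · simp [βa]
      · simp [hg]
      · simp
      · simp [hf]
    have hz : h ≫ pullback.snd j i = W.hom := pullback.lift_snd _ _ _
    have hpb := h2.paste_vert hP
    rw [hz] at hpb
    have hiso : IsIso (mkBc i (V := Scheme.ProEt.mk (Spec.map α ≫ j)) βa hw).left := by
      have : (mkBc i (V := Scheme.ProEt.mk (Spec.map α ≫ j)) βa hw).left = hpb.isoPullback.hom :=
        pullback.hom_ext ((pullback.lift_fst _ _ _).trans hpb.isoPullback_hom_fst.symm)
          ((pullback.lift_snd _ _ _).trans hpb.isoPullback_hom_snd.symm)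
      rw [this]
      infer_instance
    have : IsIso ((Scheme.ProEt.forget Z ⋙ Over.forget Z).map
        (mkBc i (V := Scheme.ProEt.mk (Spec.map α ≫ j)) βa hw)) := hiso
    exact isIso_of_reflects_iso _ (Scheme.ProEt.forget Z ⋙ Over.forget Z)
  · exact fun V b => exists_hom_of_sections i j U hrj hWU
      (refinements_of_hasSections (hasSections_of_isWContractible hW)) α βa hw
      (fun q _ σ hσ => SpecLift.exists_section_lift hW hL βa rfl q σ hσ) V b
  · intro e he
    have h1 : e.left ≫ Spec.map α = Spec.map α := by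
      refine (cancel_mono j).1 ?_
      exact (Category.assoc _ _ _).trans (MorphismProperty.Over.w e)
    have h2 := congrArg (fun m => m.left ≫ bcFst i (Scheme.ProEt.mk (Spec.map α ≫ j))) he
    have h3 : βa ≫ e.left = βa := by
      refine Eq.trans ?_ (h2.trans (mkBc_fst i _ _))
      refine Eq.symm ((Category.assoc _ _ _).trans ((congrArg (_ ≫ ·) (bcMap_left_fst i e)).trans ?_))
      exact (Category.assoc _ _ _).symm.trans (congrArg (· ≫ e.left) (mkBc_fst i _ _))
    exact MorphismProperty.Over.Hom.ext (SpecLift.eq_id (A := Γ(X, U)) (C := CommRingCat.of C)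
      (S := W.left) hendo βa rfl e.left h1 h3)

instance hasHenselLifts_homeo : HasHenselLifts i where
  nonempty {W} hW := by
    have := hW.isAffine
    obtain ⟨U, hU, hWU⟩ := hW.base
    exact exists_henselLift_homeo i hU W hW.isWC hWU

/-- Base change along a universal homeomorphism preserves small weakly contractible objects. -/
theorem isSmallWC_bcP_homeo {V : X.ProEt} (hV : IsSmallWC (𝟙 X) V) :
    IsSmallWC i ((ProEtS.bcP i).obj V) := by
  have := hV.isAffine
  have : IsIntegralHom (bcFst i V) := MorphismProperty.pullback_fst V.hom i inferInstance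
  have hWa : IsAffine ((ProEtS.bcP i).obj V).left := isAffine_of_isAffineHom (bcFst i V)
  obtain ⟨U, hU, hVU⟩ := hV.base
  refine ⟨hWa, ?_, U, hU, ?_⟩
  · let j := hU.fromSpec
    have hrj : Set.range j = (U : Set X) := hU.range_fromSpec
    replace hVU : Set.range V.hom ⊆ (U : Set X) := fun x hx => hVU (by simpa using hx)
    let q : V.left ⟶ Spec Γ(X, U) := IsOpenImmersion.lift j V.hom (hrj.symm ▸ hVU)
    have hq : q ≫ j = V.hom := IsOpenImmersion.lift_fac _ _ _
    have : WeaklyEtale q := by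
      have : WeaklyEtale (q ≫ j) := by rw [hq]; exact V.prop
      exact WeaklyEtale.of_comp q j
    let P := pullback j i
    let cl : P ⟶ Spec Γ(X, U) := pullback.fst j i
    have : IsIntegralHom cl := MorphismProperty.pullback_fst j i inferInstance
    have : UniversallyInjective cl := MorphismProperty.pullback_fst j i inferInstance
    have : Surjective cl := MorphismProperty.pullback_fst j i inferInstance
    have : IsAffine P := isAffine_of_isAffineHom cl
    let f : Γ(X, U) ⟶ Γ(P, ⊤) := (Scheme.ΓSpecIso Γ(X, U)).inv ≫ cl.appTop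
    have hf : Spec.map f = P.isoSpec.inv ≫ cl := by
      rw [Spec.map_comp, ← Scheme.isoSpec_Spec_inv, Scheme.isoSpec_inv_naturality]
    obtain ⟨c, hc⟩ : ∃ c : Γ(X, U) ⟶ Γ(V.left, ⊤), Spec.map c = V.left.isoSpec.inv ≫ q :=
      ⟨Spec.preimage _, Spec.map_preimage _⟩
    letI : Algebra Γ(X, U) Γ(P, ⊤) := f.hom.toAlgebra
    letI : Algebra Γ(X, U) Γ(V.left, ⊤) := c.hom.toAlgebra
    have hcwe : WeaklyEtale (Spec.map c) := by rw [hc]; infer_instance
    have : Algebra.WeaklyEtale Γ(X, U) Γ(V.left, ⊤) :=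
      FlatMor2.isWeaklyEtaleHom_iff.1 ((FlatMor2.weaklyEtale_SpecMap_iff c).1 hcwe)
    have hwc := (isHomeoExt_of_scheme cl f hf).isWContractible_tensor hV.isWC
    let T := Γ(P, ⊤) ⊗[Γ(X, U)] Γ(V.left, ⊤)
    have h1 := isPullback_SpecMap_of_isPushout _ _ _ _
      (CommRingCat.isPushout_tensorProduct Γ(X, U) Γ(P, ⊤) Γ(V.left, ⊤)).flip
    have h2 : IsPullback (Spec.map (CommRingCat.ofHom (Algebra.TensorProduct.includeRight :
        Γ(V.left, ⊤) →ₐ[Γ(X, U)] T).toRingHom) ≫ V.left.isoSpec.inv)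
        (Spec.map (CommRingCat.ofHom (Algebra.TensorProduct.includeLeftRingHom :
          Γ(P, ⊤) →+* T)) ≫ P.isoSpec.inv) q cl := by
      refine h1.of_iso (Iso.refl _) V.left.isoSpec.symm P.isoSpec.symm (Iso.refl _) ?_ ?_ ?_ ?_
      · simp
      · simp
      · simp only [Iso.refl_hom, Category.comp_id, Iso.symm_hom]
        exact hc
      · simp only [Iso.refl_hom, Category.comp_id, Iso.symm_hom]
        exact hf
    have h3 := h2.paste_vert (IsPullback.of_hasPullback j i)
    have h4 : IsPullback (bcFst i V) ((ProEtS.bcP i).obj V).hom (q ≫ j) i := by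
      rw [hq]
      exact IsPullback.of_hasPullback V.hom i
    have e : Spec (CommRingCat.of T) ≅ ((ProEtS.bcP i).obj V).left :=
      IsPullback.isoIsPullback _ _ h3 h4
    exact isWContractible_of_ringEquiv
      ((Scheme.ΓSpecIso (CommRingCat.of T)).symm ≪≫ Scheme.Γ.mapIso e.symm.op).commRingCatIsoToRingEquiv
      hwc
  · rintro _ ⟨x, rfl⟩
    rw [show ((ProEtS.bcP i).obj V).hom ≫ i = bcFst i V ≫ V.hom from (pullback.condition).symm]
    exact hVU ⟨bcFst i V x, by simp⟩

variable [ProEtS.PCont i]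

theorem bijective_unit_homeo {V : X.ProEt} (hV : IsSmallWC (𝟙 X) V) (F : ProEtS.AbP X) :
    Function.Bijective (((ProEtS.pullPushAdjP i).unit.app F).hom.app (op V)) := by
  have := hV.isAffine
  have hW := isSmallWC_bcP_homeo i hV
  let W := (ProEtS.bcP i).obj V
  obtain ⟨L⟩ := nonempty_henselLift i hW
  have := L.isAffine
  have := L.isIso
  obtain ⟨m, hm⟩ := L.exists_lift V (𝟙 W)
  have : Surjective (bcFst i V) := MorphismProperty.pullback_fst V.hom i inferInstance
  have hsurj : Surjective m.left := by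
    refine ⟨fun v => ?_⟩
    obtain ⟨y, rfl⟩ := (bcFst i V).surjective v
    have h1 : (L.a ≫ (ProEtS.bcP i).map m).left ≫ bcFst i V =
        (L.a.left ≫ bcFst i L.obj) ≫ m.left := by
      refine (Category.assoc _ _ _).trans ((congrArg (_ ≫ ·) (bcMap_left_fst i m)).trans ?_)
      exact (Category.assoc _ _ _).symm
    rw [hm] at h1
    exact ⟨bcFst i L.obj (L.a.left y), (congrArg (fun q => q y) h1).symm⟩
  obtain ⟨s, hs⟩ := hasSections_of_isWContractible hV.isWC L.obj m inferInstance hsurj
  have hbs : (ProEtS.bcP i).map s = L.a := by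
    have h1 : (ProEtS.bcP i).map s ≫ (ProEtS.bcP i).map m = 𝟙 _ := by
      rw [← Functor.map_comp, hs, CategoryTheory.Functor.map_id]
    have : IsIso (L.a ≫ (ProEtS.bcP i).map m) := by rw [hm]; infer_instance
    have : IsIso ((ProEtS.bcP i).map m) := IsIso.of_isIso_comp_left L.a _
    rw [← cancel_mono ((ProEtS.bcP i).map m), h1, hm]
  have hms : m ≫ s = 𝟙 _ :=
    L.rigid _ (by rw [Functor.map_comp, reassoc_of% hm, hbs]; exact Category.id_comp _)
  let L' : HenselLift i ((ProEtS.bcP i).obj V) :=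
    ⟨V, 𝟙 W, inferInstanceAs (IsIso (𝟙 _)), hV.isAffine, fun V' b => by
      obtain ⟨m', hm'⟩ := L.exists_lift V' b
      exact ⟨s ≫ m', by rw [Category.id_comp, Functor.map_comp, hbs, hm']⟩,
    fun e he => by
      rw [Category.id_comp] at he
      have h1 : m ≫ e ≫ s = 𝟙 _ := L.rigid _ (by
        rw [Functor.map_comp, Functor.map_comp, reassoc_of% hm, he, hbs]
        exact Category.id_comp _)
      have h2 : s ≫ (m ≫ e ≫ s) ≫ m = e := by simp [reassoc_of% hs, hs]
      rw [← h2, h1, Category.id_comp, hs]⟩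
  have h2 : ∀ s, (liftEval i L').app F s =
      ((ProEtS.pullPushAdjP i).unit.app F).hom.app (op V) s := fun s => by
    change ((ProEtS.pullP i).obj F).obj.map (𝟙 W).op _ = _
    rw [op_id, Functor.map_id_apply]
    rfl
  have h1 := bijective_liftEval i hW L' F
  rwa [funext h2] at h1

/-- Push forward along a universal homeomorphism is an equivalence. -/
theorem pushP_isEquivalence_homeo : (ProEtS.pushP i).IsEquivalence := by
  have h1 : ∀ F, IsIso ((ProEtS.pullPushAdjP i).unit.app F) := fun F =>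
    isIso_of_bijective_smallWC (𝟙 X) _ fun V hV => bijective_unit_homeo i hV F
  have h2 : ∀ F, IsIso ((ProEtS.pullPushAdjP i).counit.app F) := isIso_counit i
  exact (ProEtS.pullPushAdjP i).toEquivalence.isEquivalence_inverse

end Groth.EtaleDeep.ProEt
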