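import Groth.Agent.EtaleDeep.ProEt.Objects

/-!
# Inverse image presheaves on weakly contractible objects
-/

set_option autoImplicit false
set_option backward.isDefEq.respectTransparency.types false
set_option linter.style.haveILetI false

universe w u

open CategoryTheory CategoryTheory.Limits AlgebraicGeometry Opposite

namespace Groth.EtaleDeep.ProEt

variable {X Y : Scheme.{u}}

/-- Gluing over a disjoint union. -/
theorem bijective_sigmaObj {P : X.ProEtᵒᵖ ⥤ Type w}
    (hP : Presieve.IsSheaf (Scheme.ProEt.topology X) P) {n : ℕ} (V : Fin n → X.ProEt) :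
    Function.Bijective fun (x : P.obj (op (sigmaObj V))) (i : Fin n) =>
      P.map (sigmaIncl V i).op x := by
  have : ∀ i, IsOpenImmersion (sigmaIncl V i).left := fun i =>
    inferInstanceAs (IsOpenImmersion (Sigma.ι (fun i => (V i).left) i))
  have : ∀ i, Mono (sigmaIncl V i) := fun i => mono_of_mono_left _
  refine bijective_of_disjoint_cover hP V (sigmaIncl V)
    (openImmersions_mem_topology V (sigmaIncl V) fun x => ?_) fun i j e => ?_
  · obtain ⟨y, hy⟩ := (sigmaOpenCover (fun i => (V i).left)).covers x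
    exact ⟨_, y, hy⟩
  · refine Set.disjoint_left.2 ?_
    rintro x ⟨a, rfl⟩ ⟨b, hb⟩
    have := (sigmaι_eq_iff (fun i => (V i).left) j i b a).1 hb
    exact e (congrArg Sigma.fst this).symm

section

variable (f : X ⟶ Y) (F : Sheaf (Scheme.ProEt.topology Y) (Type (u + 1)))

/-- The presheaf inverse image. -/
noncomputable abbrev lanObj : X.ProEtᵒᵖ ⥤ Type (u + 1) :=
  (ProEtS.bcP f).op.leftKanExtension F.obj

/-- The element attached to a morphism to a base change and a section. -/
noncomputable def germ {W : X.ProEt} (V : Y.ProEt) (a : W ⟶ (ProEtS.bcP f).obj V)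
    (s : F.obj.obj (op V)) : (lanObj f F).obj (op W) :=
  (lanObj f F).map a.op (((ProEtS.bcP f).op.leftKanExtensionUnit F.obj).app (op V) s)

lemma map_germ {W W' : X.ProEt} (g : W' ⟶ W) (V : Y.ProEt) (a : W ⟶ (ProEtS.bcP f).obj V)
    (s : F.obj.obj (op V)) :
    (lanObj f F).map g.op (germ f F V a s) = germ f F V (g ≫ a) s := by
  rw [germ, germ, op_comp, Functor.map_comp]
  rfl

lemma germ_map {W : X.ProEt} {V V' : Y.ProEt} (h : V' ⟶ V) (a : W ⟶ (ProEtS.bcP f).obj V')
    (s : F.obj.obj (op V)) :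
    germ f F V' a (F.obj.map h.op s) = germ f F V (a ≫ (ProEtS.bcP f).map h) s := by
  rw [germ, germ, NatTrans.naturality_apply ((ProEtS.bcP f).op.leftKanExtensionUnit F.obj) h.op s,
    op_comp, Functor.map_comp]
  rfl

lemma flat_bcP : RepresentablyFlat (ProEtS.bcP f) := by
  let e : ProEtS.bcP f ⋙ Scheme.ProEt.forget X ≅ Scheme.ProEt.forget Y ⋙ Over.pullback f :=
    MorphismProperty.Over.pullbackCompForgetIso (P := @WeaklyEtale) (Q := ⊤) f
  have : PreservesFiniteLimits (ProEtS.bcP f ⋙ Scheme.ProEt.forget X) :=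
    preservesFiniteLimits_of_natIso e.symm
  have : PreservesFiniteLimits (ProEtS.bcP f) :=
    preservesFiniteLimits_of_reflects_of_preserves (ProEtS.bcP f) (Scheme.ProEt.forget X)
  exact flat_of_preservesFiniteLimits _

theorem exists_germ {W : X.ProEt} (x : (lanObj f F).obj (op W)) :
    ∃ (V : Y.ProEt) (a : W ⟶ (ProEtS.bcP f).obj V) (s : F.obj.obj (op V)),
      germ f F V a s = x := by
  obtain ⟨j, s, hs⟩ := Types.jointly_surjective_of_isColimit
    ((ProEtS.bcP f).op.isPointwiseLeftKanExtensionLeftKanExtensionUnit F.obj (op W)) x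
  exact ⟨j.left.unop, j.hom.unop, s, hs⟩

theorem germ_eq_germ {W : X.ProEt} {V : Y.ProEt} {a : W ⟶ (ProEtS.bcP f).obj V}
    {s s' : F.obj.obj (op V)} (h : germ f F V a s = germ f F V a s') :
    ∃ (V' : Y.ProEt) (p : V' ⟶ V) (b : W ⟶ (ProEtS.bcP f).obj V'),
      b ≫ (ProEtS.bcP f).map p = a ∧ F.obj.map p.op s = F.obj.map p.op s' := by
  have := flat_bcP f
  have : IsFiltered (CostructuredArrow (ProEtS.bcP f).op (op W)) := inferInstance
  obtain ⟨j, q, hq⟩ := (Types.FilteredColimit.isColimit_eq_iff'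
    ((ProEtS.bcP f).op.isPointwiseLeftKanExtensionLeftKanExtensionUnit F.obj (op W))
    (i := CostructuredArrow.mk (Y := op V) a.op) s s').1 h
  exact ⟨j.left.unop, q.left.unop, j.hom.unop, Quiver.Hom.op_inj (CostructuredArrow.w q), hq⟩

theorem exists_common_germ {W : X.ProEt} (x y : (lanObj f F).obj (op W)) :
    ∃ (V : Y.ProEt) (a : W ⟶ (ProEtS.bcP f).obj V) (s t : F.obj.obj (op V)),
      germ f F V a s = x ∧ germ f F V a t = y := by
  have := flat_bcP f
  have : IsFiltered (CostructuredArrow (ProEtS.bcP f).op (op W)) := inferInstance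
  obtain ⟨V₁, a₁, s₁, rfl⟩ := exists_germ f F x
  obtain ⟨V₂, a₂, s₂, rfl⟩ := exists_germ f F y
  let i₁ := CostructuredArrow.mk (S := (ProEtS.bcP f).op) (Y := op V₁) a₁.op
  let i₂ := CostructuredArrow.mk (S := (ProEtS.bcP f).op) (Y := op V₂) a₂.op
  let k := IsFiltered.max i₁ i₂
  let q₁ : i₁ ⟶ k := IsFiltered.leftToMax i₁ i₂
  let q₂ : i₂ ⟶ k := IsFiltered.rightToMax i₁ i₂
  refine ⟨k.left.unop, k.hom.unop, F.obj.map q₁.left.unop.op s₁, F.obj.map q₂.left.unop.op s₂,
    ?_, ?_⟩
  · rw [germ_map]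
    congr 1
    exact Quiver.Hom.op_inj (CostructuredArrow.w q₁)
  · rw [germ_map]
    congr 1
    exact Quiver.Hom.op_inj (CostructuredArrow.w q₂)

/-- The presheaf inverse image sends finite decompositions to products. -/
theorem bijective_lan_decomposition {n : ℕ} {W : X.ProEt} (O : Fin n → W.left.Opens)
    (hdisj : Pairwise fun k l => Disjoint (O k : Set ↥W.left) (O l))
    (hcov : (⋃ k, (O k : Set ↥W.left)) = Set.univ) :
    Function.Bijective fun (x : (lanObj f F).obj (op W)) (k : Fin n) =>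
      (lanObj f F).map (openHom (O k)).op x := by
  have hyon := fun T : X.ProEt => bijective_of_decomposition
    (GrothendieckTopology.Subcanonical.isSheaf_of_isRepresentable
      (J := Scheme.ProEt.topology X) (yoneda.obj T)) O hdisj hcov
  have hF := (isSheaf_iff_isSheaf_of_type _ _).1 F.property
  constructor
  · intro x y hxy
    obtain ⟨V, a, s, t, rfl, rfl⟩ := exists_common_germ f F x y
    have h : ∀ k, ∃ (V' : Y.ProEt) (p : V' ⟶ V) (b : _ ⟶ (ProEtS.bcP f).obj V'),
        b ≫ (ProEtS.bcP f).map p = openHom (O k) ≫ a ∧ F.obj.map p.op s = F.obj.map p.op t :=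
      fun k => germ_eq_germ f F (by
        have := congrFun hxy k
        simp only [map_germ] at this
        exact this)
    choose V' p b hb hp using h
    obtain ⟨c, hc⟩ := (hyon ((ProEtS.bcP f).obj (sigmaObj V'))).2
      fun k => b k ≫ (ProEtS.bcP f).map (sigmaIncl V' k)
    have hca : c ≫ (ProEtS.bcP f).map (sigmaDesc V' p) = a := (hyon _).1 (funext fun k => by
      have h1 : openHom (O k) ≫ c = b k ≫ (ProEtS.bcP f).map (sigmaIncl V' k) := congrFun hc k
      change openHom (O k) ≫ c ≫ (ProEtS.bcP f).map (sigmaDesc V' p) = openHom (O k) ≫ a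
      rw [reassoc_of% h1, ← Functor.map_comp, sigmaIncl_desc, hb])
    have hst : F.obj.map (sigmaDesc V' p).op s = F.obj.map (sigmaDesc V' p).op t :=
      (bijective_sigmaObj hF V').1 (funext fun k => by
        change F.obj.map (sigmaIncl V' k).op (F.obj.map _ s) =
          F.obj.map (sigmaIncl V' k).op (F.obj.map _ t)
        rw [← Functor.map_comp_apply, ← Functor.map_comp_apply, ← op_comp, sigmaIncl_desc, hp])
    rw [← hca, ← germ_map, ← germ_map, hst]
  · intro x
    choose V a s hs using fun k => exists_germ f F (x k)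
    obtain ⟨c, hc⟩ := (hyon ((ProEtS.bcP f).obj (sigmaObj V))).2
      fun k => a k ≫ (ProEtS.bcP f).map (sigmaIncl V k)
    obtain ⟨t, ht⟩ := (bijective_sigmaObj hF V).2 s
    refine ⟨germ f F _ c t, funext fun k => ?_⟩
    have h1 : openHom (O k) ≫ c = a k ≫ (ProEtS.bcP f).map (sigmaIncl V k) := congrFun hc k
    change (lanObj f F).map (openHom (O k)).op (germ f F _ c t) = x k
    rw [map_germ, h1, ← germ_map, show F.obj.map (sigmaIncl V k).op t = s k from congrFun ht k, hs]

end

end Groth.EtaleDeep.ProEt
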