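import Groth.Agent.EtaleDeep.ProEt.ClosedPullback
import Groth.Agent.EtaleDeep.ProEt.Lan
import Mathlib.CategoryTheory.Adjunction.PartialAdjoint
import Mathlib.CategoryTheory.Sites.RegularEpi
import Mathlib.CategoryTheory.Sites.LocallySurjective

/-!
# The left adjoint of the inverse image of sheaves of sets along a morphism with henselian lifts
-/

set_option autoImplicit false
set_option backward.isDefEq.respectTransparency.types false
set_option linter.style.haveILetI false

universe u

open CategoryTheory CategoryTheory.Limits AlgebraicGeometry Opposite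

namespace Groth.EtaleDeep.ProEt

variable {X Z : Scheme.{u}} (i : Z ⟶ X) [ProEtS.PCont i]

/-- Inverse image of sheaves of sets. -/
noncomputable abbrev pullSh : Sheaf (Scheme.ProEt.topology X) (Type (u + 1)) ⥤
    Sheaf (Scheme.ProEt.topology Z) (Type (u + 1)) :=
  (ProEtS.bcP i).sheafPullback (Type (u + 1)) (Scheme.ProEt.topology X) (Scheme.ProEt.topology Z)

/-- Its adjunction. -/
noncomputable abbrev pullShAdj : pullSh i ⊣ (ProEtS.bcP i).sheafPushforwardContinuous (Type (u + 1))
    (Scheme.ProEt.topology X) (Scheme.ProEt.topology Z) :=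
  (ProEtS.bcP i).sheafAdjunctionContinuous (Type (u + 1)) (Scheme.ProEt.topology X)
    (Scheme.ProEt.topology Z)

variable [HasHenselLifts i]

omit [ProEtS.PCont i] in
theorem bijective_germ (F : Sheaf (Scheme.ProEt.topology X) (Type (u + 1))) {W : Z.ProEt}
    (L : HenselLift i W) : Function.Bijective (germ i F L.obj L.a) := by
  constructor
  · intro s t hst
    obtain ⟨V', p, b, hb, hp⟩ := germ_eq_germ i F hst
    obtain ⟨m, hm⟩ := L.exists_lift V' b
    have he : m ≫ p = 𝟙 _ := L.rigid _ (by rw [Functor.map_comp, reassoc_of% hm, hb])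
    have h2 := congrArg (F.obj.map m.op) hp
    rwa [← Functor.map_comp_apply, ← Functor.map_comp_apply, ← op_comp, he, op_id,
      Functor.map_id_apply, Functor.map_id_apply] at h2
  · intro x
    obtain ⟨V, b, s, rfl⟩ := exists_germ i F x
    obtain ⟨m, rfl⟩ := L.exists_lift V b
    exact ⟨F.obj.map m.op s, germ_map i F m L.a s⟩

/-- The comparison between sections over the lift and over `W`. -/
noncomputable def liftEvalSh {W : Z.ProEt} (L : HenselLift i W) :
    sheafToPresheaf (Scheme.ProEt.topology X) (Type (u + 1)) ⋙ (evaluation _ _).obj (op L.obj) ⟶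
      pullSh i ⋙ sheafToPresheaf (Scheme.ProEt.topology Z) (Type (u + 1)) ⋙
        (evaluation _ _).obj (op W) where
  app F := ((pullShAdj i).unit.app F).hom.app (op L.obj) ≫ ((pullSh i).obj F).obj.map L.a.op
  naturality F G φ := by
    have h1 := congrArg (fun m => m.hom.app (op L.obj)) ((pullShAdj i).unit.naturality φ)
    change φ.hom.app (op L.obj) ≫ _ = (_ ≫ _) ≫ ((pullSh i).map φ).hom.app (op W)
    rw [Category.assoc]
    refine (Category.assoc _ _ _).symm.trans ((congrArg (· ≫ _) h1).trans ?_)
    refine (Category.assoc _ _ _).trans (congrArg (_ ≫ ·) ?_)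
    exact (((pullSh i).map φ).hom.naturality L.a.op).symm

theorem bijective_liftEvalSh {W : Z.ProEt} (hW : IsSmallWC i W) (L : HenselLift i W)
    (F : Sheaf (Scheme.ProEt.topology X) (Type (u + 1))) :
    Function.Bijective ((liftEvalSh i L).app F) := by
  have := hW.isAffine
  let J := Scheme.ProEt.topology Z
  let adj₂ := Functor.sheafPullbackConstruction.sheafAdjunctionContinuous (ProEtS.bcP i)
    (Type (u + 1)) (Scheme.ProEt.topology X) J
  let e := ((pullShAdj i).leftAdjointUniq adj₂).app F
  let P := lanObj i F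
  have hunit : (adj₂.unit.app F).hom =
      (ProEtS.bcP i).op.leftKanExtensionUnit F.obj ≫
        Functor.whiskerLeft (ProEtS.bcP i).op (toSheafify J P) := by
    have h := Adjunction.map_restrictFullyFaithful_unit_app
      (((ProEtS.bcP i).op.lanAdjunction (Type (u + 1))).comp
        (sheafificationAdjunction J (Type (u + 1))))
      (fullyFaithfulSheafToPresheaf (Scheme.ProEt.topology X) (Type (u + 1)))
      (Functor.FullyFaithful.id _) (L := Functor.sheafPullbackConstruction.sheafPullback
        (ProEtS.bcP i) (Type (u + 1)) (Scheme.ProEt.topology X) J)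
      (R := (ProEtS.bcP i).sheafPushforwardContinuous (Type (u + 1)) (Scheme.ProEt.topology X) J)
      (Iso.refl _) (Iso.refl _) F
    refine h.trans ?_
    simp [Adjunction.comp_unit_app]
    rfl
  have key : ∀ s, e.hom.hom.app (op W) ((liftEvalSh i L).app F s) =
      (toSheafify J P).app (op W) (germ i F L.obj L.a s) := by
    intro s
    have h1 : (pullShAdj i).unit.app F ≫ ((ProEtS.bcP i).sheafPushforwardContinuous (Type (u + 1))
        (Scheme.ProEt.topology X) J).map e.hom =
        adj₂.unit.app F := Adjunction.unit_leftAdjointUniq_hom_app _ _ F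
    have h2 := congrArg (fun m => m.hom.app (op L.obj) s) h1
    change e.hom.hom.app (op W) (((pullSh i).obj F).obj.map L.a.op
      (((pullShAdj i).unit.app F).hom.app (op L.obj) s)) = _
    rw [NatTrans.naturality_apply e.hom.hom, germ, NatTrans.naturality_apply (toSheafify J P)]
    refine congrArg _ (h2.trans ?_)
    exact congrArg (fun m => m.app (op L.obj) s) hunit
  have hb : Function.Bijective ((toSheafify J P).app (op W)) :=
    toSheafify_bijective_of_decomposition P W
      (refinements_of_hasSections (hasSections_of_isWContractible hW.isWC))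
      fun O hd hc => bijective_lan_decomposition i F O hd hc
  have hcomp : Function.Bijective
      (fun s => e.hom.hom.app (op W) ((liftEvalSh i L).app F s)) := by
    simp only [key]
    exact hb.comp (bijective_germ i F L)
  have he : Function.Bijective (e.hom.hom.app (op W)) :=
    (CategoryTheory.isIso_iff_bijective _).1
      (inferInstanceAs (IsIso (((sheafToPresheaf _ _).map e.hom).app (op W))))
  exact ((he.of_comp_iff' ((liftEvalSh i L).app F))).1 hcomp

/-- The left adjoint is defined on small weakly contractible representables. -/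
theorem leftAdjointObjIsDefined_smallWC {W : Z.ProEt} (hW : IsSmallWC i W) :
    (pullSh i).leftAdjointObjIsDefined
      ((Scheme.ProEt.topology Z).uliftYoneda.{u + 1}.obj W) := by
  obtain ⟨L⟩ := nonempty_henselLift i hW
  have h : ((pullSh i) ⋙ coyoneda.obj (op ((Scheme.ProEt.topology Z).uliftYoneda.{u + 1}.obj W))).CorepresentableBy
      ((Scheme.ProEt.topology X).uliftYoneda.{u + 1}.obj L.obj) :=
    { homEquiv := fun {F} => ((Scheme.ProEt.topology X).uliftYonedaEquiv.{u + 1}).trans
        ((Equiv.ofBijective _ (bijective_liftEvalSh i hW L F)).trans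
          ((Scheme.ProEt.topology Z).uliftYonedaEquiv.{u + 1}).symm)
      homEquiv_comp := fun {F G} φ g => by
        apply ((Scheme.ProEt.topology Z).uliftYonedaEquiv.{u + 1}).injective
        simp only [Equiv.trans_apply, Equiv.apply_symm_apply, Equiv.ofBijective_apply]
        change (liftEvalSh i L).app G (φ.hom.app (op L.obj) (g.hom.app (op L.obj) ⟨𝟙 _⟩)) = _
        refine (congrArg (fun m => m (g.hom.app (op L.obj) ⟨𝟙 _⟩)) ((liftEvalSh i L).naturality φ)).trans ?_
        change _ = ((pullSh i).map φ).hom.app (op W)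
          ((((Scheme.ProEt.topology Z).uliftYonedaEquiv.{u + 1}).symm
            ((liftEvalSh i L).app F (g.hom.app (op L.obj) ⟨𝟙 _⟩))).hom.app (op W) ⟨𝟙 _⟩)
        exact (congrArg (fun m => ((pullSh i).map φ).hom.app (op W) m)
          (((Scheme.ProEt.topology Z).uliftYonedaEquiv.{u + 1}).apply_symm_apply _)).symm }
  exact h.isCorepresentable

omit [ProEtS.PCont i] [HasHenselLifts i] in
/-- Sheaves are quotients of coproducts of small weakly contractible representables. -/
theorem exists_epi_sigma (F : Sheaf (Scheme.ProEt.topology Z) (Type (u + 1))) :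
    ∃ (ι : Type (u + 1)) (W : ι → Z.ProEt) (_ : ∀ k, IsSmallWC i (W k))
      (p : (∐ fun k => (Scheme.ProEt.topology Z).uliftYoneda.{u + 1}.obj (W k)) ⟶ F), Epi p := by
  let ι := Σ W : {W : Z.ProEt // IsSmallWC i W}, F.obj.obj (op W.1)
  let p : (∐ fun k : ι => (Scheme.ProEt.topology Z).uliftYoneda.{u + 1}.obj k.1.1) ⟶ F :=
    Sigma.desc fun k => ((Scheme.ProEt.topology Z).uliftYonedaEquiv.{u + 1}).symm k.2
  refine ⟨ι, fun k => k.1.1, fun k => k.1.2, p,
    (Sheaf.isLocallySurjective_iff_epi p).1 ⟨fun {T} s => ?_⟩⟩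
  obtain ⟨κ, V, g, hcov, hV⟩ := exists_smallWC_family i T
  refine (Scheme.ProEt.topology Z).superset_covering ?_ hcov
  rw [Sieve.generate_le_iff, Presieve.ofArrows_le_iff]
  intro k
  let l : ι := ⟨⟨V k, hV k⟩, F.obj.map (g k).op s⟩
  let a := Sigma.ι (fun k : ι => (Scheme.ProEt.topology Z).uliftYoneda.{u + 1}.obj k.1.1) l
  refine ⟨a.hom.app (op (V k)) ⟨𝟙 _⟩, ?_⟩
  refine Eq.trans ?_ (((Scheme.ProEt.topology Z).uliftYonedaEquiv.{u + 1}).apply_symm_apply l.2)
  rw [GrothendieckTopology.uliftYonedaEquiv_apply.{u + 1}]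
  exact congrArg (fun m => m.hom.app (op (V k)) ⟨𝟙 _⟩) (Sigma.ι_desc (fun k : ι => ((Scheme.ProEt.topology Z).uliftYonedaEquiv.{u + 1}).symm k.2) l)

/-- The inverse image of sheaves of sets has a left adjoint. -/
theorem pullSh_isRightAdjoint : (pullSh i).IsRightAdjoint := by
  refine Functor.isRightAdjoint_of_leftAdjointObjIsDefined_eq_top (eq_top_iff.2 fun F _ => ?_)
  have hsig : ∀ (ι : Type (u + 1)) (W : ι → Z.ProEt), (∀ k, IsSmallWC i (W k)) →
      (pullSh i).leftAdjointObjIsDefined
        (∐ fun k => (Scheme.ProEt.topology Z).uliftYoneda.{u + 1}.obj (W k)) := fun ι W hW =>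
    Functor.leftAdjointObjIsDefined_colimit _ fun k => leftAdjointObjIsDefined_smallWC i (hW k.as)
  obtain ⟨ι, W, hW, p, hp⟩ := exists_epi_sigma i F
  let r : RegularEpi p := regularEpiOfEpi p
  obtain ⟨κ, V, hV, q, hq⟩ := exists_epi_sigma i r.W
  have hc := isCoequalizerEpiComp r.isColimit q
  exact Functor.leftAdjointObjIsDefined_of_isColimit hc fun j => by
    cases j
    · exact hsig κ V hV
    · exact hsig ι W hW

end Groth.EtaleDeep.ProEt
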